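import Mathlib

/-!
Diagonal values of determinant one that are not paired by any `a ↦ c / a`.
Owner: helper86.
-/

set_option autoImplicit false

namespace Cfsg.Agent.Lib.ElusiveOrth

variable {F : Type*} [Field F] {n : ℕ}

/-- Diagonal values of determinant one with common `r`-th power, not all equal, and not paired by any
`a ↦ c / a`. -/
def IsWitness (r : ℕ) (w : Fin n → F) : Prop :=
  ∏ i, w i = 1 ∧ (∃ z : F, ∀ i, w i ^ r = z) ∧ (∃ i j, w i ≠ w j) ∧
    ∀ c : F, c ≠ 0 → ∃ a, a ≠ 0 ∧ Nat.card {j // w j = c / a} < Nat.card {i // w i = a}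

theorem card_val_lt (k : ℕ) (hk : k ≤ n) : Nat.card {i : Fin n // (i : ℕ) < k} = k := by
  rw [Nat.card_congr (Fin.castLEquiv hk).symm, Nat.card_fin]

theorem card_le_val (k : ℕ) (hk : k ≤ n) : Nat.card {i : Fin n // ¬ (i : ℕ) < k} = n - k := by
  rw [Nat.card_eq_fintype_card, Fintype.card_subtype_compl, Fintype.card_fin,
    ← Nat.card_eq_fintype_card, card_val_lt k hk]

/-- Two values of different multiplicities. -/
theorem two_values {k : ℕ} (hk0 : 0 < k) (hkn : k < n) (hne : k ≠ n - k) {a b : F} (ha : a ≠ 0)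
    (hb : b ≠ 0) (hab : a ^ 2 ≠ b ^ 2) (w : Fin n → F) (hw : ∀ i, w i = if (i : ℕ) < k then a else b)
    (c : F) (_hc : c ≠ 0) :
    ∃ t, t ≠ 0 ∧ Nat.card {j // w j = c / t} < Nat.card {i // w i = t} := by
  classical
  have hne' : a ≠ b := fun h => hab (by rw [h])
  have hA : Nat.card {i // w i = a} = k := by
    rw [Nat.card_congr (Equiv.subtypeEquivRight (q := fun i : Fin n => (i : ℕ) < k) fun i => ?_),
      card_val_lt k hkn.le]
    rw [hw]; by_cases h : (i : ℕ) < k <;> simp [h, Ne.symm hne']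
  have hB : Nat.card {i // w i = b} = n - k := by
    rw [Nat.card_congr (Equiv.subtypeEquivRight (q := fun i : Fin n => ¬ (i : ℕ) < k) fun i => ?_),
      card_le_val k hkn.le]
    rw [hw]; by_cases h : (i : ℕ) < k <;> simp [h, hne']
  have h0 : ∀ t, t ≠ a → t ≠ b → Nat.card {i // w i = t} = 0 := fun t h1 h2 => by
    haveI : IsEmpty {i // w i = t} := ⟨fun ⟨i, hi⟩ => by
      rw [hw] at hi
      by_cases h : (i : ℕ) < k
      · rw [if_pos h] at hi; exact h1 hi.symm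
      · rw [if_neg h] at hi; exact h2 hi.symm⟩
    exact Nat.card_of_isEmpty
  by_cases h1 : c / a = a
  · refine ⟨b, hb, ?_⟩
    have hcc : c = a * a := by rw [div_eq_iff ha] at h1; exact h1
    have h2 : c / b ≠ a := fun h => hne' (by
      rw [div_eq_iff hb, hcc] at h
      exact mul_left_cancel₀ ha h)
    have h3 : c / b ≠ b := fun h => hab (by
      rw [div_eq_iff hb, hcc] at h
      rw [pow_two, pow_two, h])
    rw [h0 _ h2 h3, hB]; omega
  · by_cases h2 : c / a = b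
    · rcases Nat.lt_or_gt_of_ne hne with h | h
      · refine ⟨b, hb, ?_⟩
        have : c / b = a := by
          rw [div_eq_iff ha] at h2
          rw [div_eq_iff hb, h2, mul_comm]
        rw [this, hA, hB]; exact h
      · exact ⟨a, ha, by rw [h2, hA, hB]; exact h⟩
    · exact ⟨a, ha, by rw [h0 _ h1 h2, hA]; exact hk0⟩

theorem exists_witness_of_root_sq {r : ℕ}
    [hr : Fact r.Prime] (hr2 : r ≠ 2) (hnr : n = r) {ε : F} (hε : orderOf ε = r ^ 2)
    (φ : F →+* F) (hφ : φ ε = ε) :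
    ∃ w : Fin n → F, IsWitness r w ∧ ∀ i, φ (w i) = w i := by
  have hr3 : 3 ≤ r := lt_of_le_of_ne hr.out.two_le (Ne.symm hr2)
  have hε0 : ε ≠ 0 := fun h => by
    have h1 := pow_orderOf_eq_one ε
    rw [hε, h, zero_pow (pow_ne_zero 2 hr.out.ne_zero)] at h1
    exact zero_ne_one h1
  set ζ := ε ^ r with hζ
  have hζr : ζ ^ r = 1 := by rw [hζ, ← pow_mul, ← pow_two, ← hε, pow_orderOf_eq_one]
  have hζ0 : ζ ≠ 0 := pow_ne_zero _ hε0
  have hζ2 : ζ ^ 2 ≠ 1 := by
    rw [hζ, ← pow_mul]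
    refine pow_ne_one_of_lt_orderOf (Nat.mul_ne_zero hr.out.ne_zero two_ne_zero) ?_
    rw [hε, pow_two]
    exact Nat.mul_lt_mul_of_pos_left (by omega) hr.out.pos
  let w : Fin n → F := fun i => if (i : ℕ) < n - 1 then ε else ε * ζ⁻¹
  refine ⟨w, ⟨?_, ⟨ζ, fun i => ?_⟩, ⟨⟨0, by omega⟩, ⟨n - 1, by omega⟩, ?_⟩, ?_⟩, fun i => ?_⟩
  rotate_left 3
  · refine two_values (k := n - 1) (by omega) (by omega) (by omega) hε0 (mul_ne_zero hε0 (inv_ne_zero hζ0))
      ?_ w fun _ => rfl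
    intro h
    rw [mul_pow, eq_comm, mul_eq_left₀ (pow_ne_zero 2 hε0), inv_pow, inv_eq_one] at h
    exact hζ2 h
  · show φ (if _ then ε else ε * ζ⁻¹) = if _ then ε else ε * ζ⁻¹
    split_ifs <;> simp [hζ, hφ]
  · obtain ⟨m, rfl⟩ : ∃ m, n = m + 1 := ⟨n - 1, by omega⟩
    rw [Fin.prod_univ_castSucc]
    simp only [w, Fin.val_castSucc, Fin.val_last, Nat.add_sub_cancel, lt_irrefl, if_false]
    rw [Finset.prod_congr rfl fun i _ => if_pos i.isLt, Finset.prod_const, Finset.card_fin,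
      ← mul_assoc, ← pow_succ, hnr, ← hζ, mul_inv_cancel₀ hζ0]
  · show (if _ then ε else ε * ζ⁻¹) ^ r = ζ
    split_ifs
    · rfl
    · rw [mul_pow, inv_pow, hζr, inv_one, mul_one]
  · simp only [w, show (0 : ℕ) < n - 1 by omega, if_true, lt_irrefl, if_false]
    intro h
    rw [eq_comm, mul_eq_left₀ hε0, inv_eq_one] at h
    exact hζ2 (by rw [h, one_pow])

theorem exists_witness_three {ζ : F} (hζ : orderOf ζ = 3) (hn : 4 ≤ n) (hn6 : n ≠ 6)
    (φ : F →+* F) (hφ : φ ζ = ζ) : ∃ w : Fin n → F, IsWitness 3 w ∧ ∀ i, φ (w i) = w i := by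
  have hζ3 : ζ ^ 3 = 1 := hζ ▸ pow_orderOf_eq_one ζ
  have hζ2 : ζ ^ 2 ≠ 1 := pow_ne_one_of_lt_orderOf two_ne_zero (by omega)
  have hζ0 : ζ ≠ 0 := fun h => by simp [h] at hζ3
  let w : Fin n → F := fun i => if (i : ℕ) < 3 then ζ else 1
  refine ⟨w, ⟨?_, ⟨1, fun i => ?_⟩, ⟨⟨0, by omega⟩, ⟨3, by omega⟩, ?_⟩, ?_⟩, fun i => ?_⟩
  rotate_left 3
  · exact two_values (k := 3) (by omega) (by omega) (by omega) hζ0 one_ne_zero (by rwa [one_pow]) w
      fun _ => rfl
  · show φ (if _ then ζ else 1) = if _ then ζ else 1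
    split_ifs <;> simp [hφ]
  · obtain ⟨m, rfl⟩ : ∃ m, n = m + 3 := ⟨n - 3, by omega⟩
    rw [Fin.prod_univ_succ, Fin.prod_univ_succ, Fin.prod_univ_succ]
    simp only [w, Fin.val_succ, Fin.val_zero]
    rw [Finset.prod_eq_one fun i _ => if_neg (by omega)]
    norm_num
    rw [← pow_two, ← pow_succ'] at *
    exact hζ3
  · show (if _ then ζ else 1) ^ 3 = 1
    split_ifs
    · exact hζ3
    · exact one_pow 3
  · simp only [w, show (0 : ℕ) < 3 by omega, if_true, lt_irrefl, if_false]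
    intro h
    exact hζ2 (by rw [h, one_pow])

theorem exists_witness_five {r : ℕ} {ζ : F}
    (hζ : orderOf ζ = r) (hr : r.Prime) (hr5 : 5 ≤ r) (hn : 3 ≤ n) (hn5 : ¬ (n = 5 ∧ r = 5))
    (φ : F →+* F) (hφ : φ ζ = ζ) : ∃ w : Fin n → F, IsWitness r w ∧ ∀ i, φ (w i) = w i := by
  classical
  have hζr : ζ ^ r = 1 := hζ ▸ pow_orderOf_eq_one ζ
  have hζ0 : ζ ≠ 0 := fun h => by simp [h, hr.ne_zero] at hζr
  have hne : ∀ k, 0 < k → k < r → ζ ^ k ≠ 1 := fun k h1 h2 =>
    pow_ne_one_of_lt_orderOf (by omega) (by omega)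
  have hζ1 : ζ ≠ 1 := by simpa using hne 1 one_pos (by omega)
  have hζ2 : ζ ^ 2 ≠ 1 := hne 2 two_pos (by omega)
  set b := (ζ ^ 2)⁻¹ with hb
  have hb0 : b ≠ 0 := inv_ne_zero (pow_ne_zero 2 hζ0)
  have hb2 : b * ζ ^ 2 = 1 := inv_mul_cancel₀ (pow_ne_zero 2 hζ0)
  have hbζ : b ≠ ζ := fun h => hne 3 (by omega) (by omega) (by rw [← hb2, h]; ring)
  have hb1 : b ≠ 1 := fun h => hζ2 (by rw [← hb2, h, one_mul])
  let w : Fin n → F := fun i => if (i : ℕ) < 2 then ζ else if (i : ℕ) = 2 then b else 1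
  have hcases : ∀ i : Fin n, ((i : ℕ) < 2 ∧ w i = ζ) ∨ ((i : ℕ) = 2 ∧ w i = b) ∨
      (3 ≤ (i : ℕ) ∧ w i = 1) := by
    intro i
    by_cases h1 : (i : ℕ) < 2
    · exact Or.inl ⟨h1, if_pos h1⟩
    · by_cases h2 : (i : ℕ) = 2
      · exact Or.inr (Or.inl ⟨h2, by simp only [w, if_neg h1, if_pos h2]⟩)
      · exact Or.inr (Or.inr ⟨by omega, by simp only [w, if_neg h1, if_neg h2]⟩)
  have e2 : Nat.card {i // w i = ζ} = 2 := by
    rw [Nat.card_congr (Equiv.subtypeEquivRight (q := fun i : Fin n => (i : ℕ) < 2) fun i => ?_),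
      card_val_lt 2 (by omega)]
    rcases hcases i with ⟨h1, h2⟩ | ⟨h1, h2⟩ | ⟨h1, h2⟩
    · simp [h1, h2]
    · simp [h2, hbζ, h1]
    · simp [h2, Ne.symm hζ1, show ¬ (i : ℕ) < 2 by omega]
  have eb : Nat.card {i // w i = b} = 1 := by
    rw [Nat.card_eq_one_iff_unique]
    refine ⟨⟨fun a a' => Subtype.ext (Fin.ext ?_)⟩, ⟨⟨⟨2, by omega⟩, by simp [w]⟩⟩⟩
    have : ∀ a : {i // w i = b}, ((a : Fin n) : ℕ) = 2 := fun ⟨i, hi⟩ => by
      rcases hcases i with ⟨-, h2⟩ | ⟨h1, -⟩ | ⟨-, h2⟩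
      · exact absurd (h2.symm.trans hi) hbζ.symm
      · exact h1
      · exact absurd (h2.symm.trans hi) hb1.symm
    rw [this a, this a']
  have e1 : Nat.card {i // w i = 1} = n - 3 := by
    rw [Nat.card_congr (Equiv.subtypeEquivRight (q := fun i : Fin n => ¬ (i : ℕ) < 3) fun i => ?_),
      card_le_val 3 hn]
    rcases hcases i with ⟨h1, h2⟩ | ⟨h1, h2⟩ | ⟨h1, h2⟩
    · simp [h2, hζ1, show (i : ℕ) < 3 by omega]
    · simp [h2, hb1, show (i : ℕ) < 3 by omega]
    · simp [h2, show 3 ≤ (i : ℕ) by omega]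
  have h0 : ∀ t, t ≠ ζ → t ≠ b → t ≠ 1 → Nat.card {i // w i = t} = 0 := fun t h1 h2 h3 => by
    haveI : IsEmpty {i // w i = t} := ⟨fun ⟨i, hi⟩ => by
      rcases hcases i with ⟨-, h⟩ | ⟨-, h⟩ | ⟨-, h⟩ <;> rw [h] at hi
      · exact h1 hi.symm
      · exact h2 hi.symm
      · exact h3 hi.symm⟩
    exact Nat.card_of_isEmpty
  refine ⟨w, ⟨?_, ⟨1, fun i => ?_⟩, ⟨⟨0, by omega⟩, ⟨2, by omega⟩, ?_⟩, fun c _ => ?_⟩, fun i => ?_⟩
  rotate_left 4
  · rcases hcases i with ⟨-, h⟩ | ⟨-, h⟩ | ⟨-, h⟩ <;> rw [h] <;> simp [hb, hφ]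
  · obtain ⟨m, rfl⟩ : ∃ m, n = m + 3 := ⟨n - 3, by omega⟩
    rw [Fin.prod_univ_succ, Fin.prod_univ_succ, Fin.prod_univ_succ]
    simp only [w, Fin.val_succ, Fin.val_zero]
    rw [Finset.prod_eq_one fun i _ => by rw [if_neg (by omega), if_neg (by omega)]]
    norm_num
    linear_combination hb2
  · rcases hcases i with ⟨-, h⟩ | ⟨-, h⟩ | ⟨-, h⟩ <;> rw [h]
    · exact hζr
    · rw [hb, inv_pow, ← pow_mul, mul_comm, pow_mul, hζr, one_pow, inv_one]
    · exact one_pow _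
  · simp only [w, show (0 : ℕ) < 2 by omega, if_true, lt_irrefl, if_false]
    exact hbζ.symm
  · by_cases h1 : c / ζ = ζ
    · -- the partner of `b` is missing
      refine ⟨b, hb0, ?_⟩
      have hc : c / b = ζ ^ 4 := by
        rw [div_eq_iff hζ0] at h1
        rw [div_eq_iff hb0, h1]
        linear_combination -(ζ * ζ) * hb2
      rw [hc, eb, h0 _ ?_ ?_ ?_]
      · exact one_pos
      · intro h; exact hne 3 (by omega) (by omega) (mul_right_cancel₀ hζ0 (by linear_combination h))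
      · intro h
        have h6 : ζ ^ 6 = 1 := by linear_combination ζ ^ 2 * h + hb2
        have hd := orderOf_dvd_of_pow_eq_one h6
        rw [hζ] at hd
        rcases (Nat.le_of_dvd (by norm_num) hd).lt_or_eq with h' | h'
        · have : r = 5 := by omega
          subst this
          norm_num at hd
        · subst h'; norm_num at hr
      · exact hne 4 (by omega) (by omega)
    · by_cases h2 : c / ζ = b
      · exact ⟨ζ, hζ0, by rw [h2, e2, eb]; omega⟩
      · by_cases h3 : c / ζ = 1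
        · have hc : c = ζ := by rwa [div_eq_one_iff_eq hζ0] at h3
          by_cases h4 : n - 3 < 2
          · exact ⟨ζ, hζ0, by rw [h3, e2, e1]; exact h4⟩
          by_cases h5 : 2 < n - 3
          · exact ⟨1, one_ne_zero, by rw [div_one, hc, e2, e1]; exact h5⟩
          have hn' : n = 5 := by omega
          have hr' : r ≠ 5 := fun h => hn5 ⟨hn', h⟩
          refine ⟨b, hb0, ?_⟩
          have hcb : c / b = ζ ^ 3 := by
            rw [div_eq_iff hb0, hc]
            linear_combination -ζ * hb2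
          rw [hcb, eb, h0 _ ?_ ?_ ?_]
          · exact one_pos
          · intro h; exact hζ2 (mul_right_cancel₀ hζ0 (by linear_combination h))
          · intro h
            have h5' : ζ ^ 5 = 1 := by linear_combination ζ ^ 2 * h + hb2
            have hd := orderOf_dvd_of_pow_eq_one h5'
            rw [hζ] at hd
            exact hr' ((Nat.prime_dvd_prime_iff_eq hr (by norm_num)).mp hd)
          · exact hne 3 (by omega) (by omega)
        · exact ⟨ζ, hζ0, by rw [h0 _ h1 h2 h3, e2]; omega⟩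

end Cfsg.Agent.Lib.ElusiveOrth
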