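import Mathlib
import Cfsg.Prelude.Def_GeometricClasses
import Cfsg.Agent.Lib.ElusiveOrth.Witness
import Cfsg.Agent.Lib.Forms.Count
import Cfsg.Agent.Lib.Elusive19.OrthEven
import Cfsg.Agent.Lib.Elusive.Linear
import Cfsg.Agent.Lib.Elusive.UnipotentType
import Cfsg.Agent.Lib.Linear.Order
import Cfsg.Agent.Lib.JordanType.Parity
import Cfsg.Agent.Lib.JordanType.Conj

/-!
Elements of odd prime order of `SL(n, q)`, `q` odd, with no conjugate among the similitudes of a
nondegenerate quadratic form.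
Owner: helper86.
-/

set_option autoImplicit false

namespace Cfsg.Agent.Lib.ElusiveOrth

open Module QuadraticMap Cfsg.Agent.Lib.Forms
open scoped Matrix

variable {F : Type*} [Field F] {n : ℕ} {Q : (Fin n → F) → F}

/-- `x` is an element of projective order `r` of `SL` with no conjugate in the similitude group. -/
def IsMover (Q : (Fin n → F) → F) (r : ℕ) (x : GL (Fin n) F) : Prop :=
  x ∈ Cfsg.Geo.specialLinear (Fin n) F ∧
  (∃ z : F, ((x ^ r : GL (Fin n) F) : Matrix (Fin n) (Fin n) F) = z • (1 : Matrix (Fin n) (Fin n) F)) ∧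
  (∀ z : F, (x : Matrix (Fin n) (Fin n) F) ≠ z • (1 : Matrix (Fin n) (Fin n) F)) ∧
  ∀ g ∈ Cfsg.Geo.specialLinear (Fin n) F, g⁻¹ * x * g ∉ Cfsg.Geo.quadSimilarityGroup Q

/-- The quadratic form as a quadratic map. -/
def quad (hQ : Cfsg.Geo.IsNondegenerateQuadraticForm Q) : QuadraticForm F (Fin n → F) :=
  QuadraticMap.ofPolar Q (fun a v => by rw [hQ.smul, smul_eq_mul, pow_two])
    hQ.polar_bilinear.add_left fun a v w => by rw [hQ.polar_bilinear.smul_left, smul_eq_mul]

theorem quad_apply (hQ : Cfsg.Geo.IsNondegenerateQuadraticForm Q) (v : Fin n → F) :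
    quad hQ v = Q v := rfl

theorem quad_nondeg (hQ : Cfsg.Geo.IsNondegenerateQuadraticForm Q) : Nondeg (quad hQ) := by
  intro v hv
  by_contra h
  obtain ⟨w, hw⟩ := (hQ.nondegenerate v h).1
  exact hw ((polar_comm _ _ _).trans (hv w))

theorem exists_gl (g : Module.End F (Fin n → F)) (h : LinearMap.det g = 1) :
    ∃ x : GL (Fin n) F, x ∈ Cfsg.Geo.specialLinear (Fin n) F ∧
      Matrix.toLin' (x : Matrix (Fin n) (Fin n) F) = g := by
  let y : Matrix.SpecialLinearGroup (Fin n) F :=
    ⟨LinearMap.toMatrix' g, by rw [LinearMap.det_toMatrix', h]⟩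
  exact ⟨Matrix.SpecialLinearGroup.toGL y, Units.ext y.2, Matrix.toLin'_toMatrix' g⟩

theorem coe_pow_toLin (x : GL (Fin n) F) (k : ℕ) :
    Matrix.toLin' ((x ^ k : GL (Fin n) F) : Matrix (Fin n) (Fin n) F) =
      Matrix.toLin' (x : Matrix (Fin n) (Fin n) F) ^ k := by
  rw [Units.val_pow_eq_pow_val, Matrix.toLin'_pow]

/-- A conjugate in the similitude group gives a symmetric form moved only by a scalar. -/
theorem exists_form (hQ : Cfsg.Geo.IsNondegenerateQuadraticForm Q) (x g : GL (Fin n) F)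
    (h : g⁻¹ * x * g ∈ Cfsg.Geo.quadSimilarityGroup Q) :
    ∃ B : LinearMap.BilinForm F (Fin n → F), (∀ u v, B u v = B v u) ∧ B.Nondegenerate ∧
      ∃ c : F, c ≠ 0 ∧
        (∀ v, Q (((g⁻¹ * x * g : GL (Fin n) F) : Matrix (Fin n) (Fin n) F) *ᵥ v) = c * Q v) ∧
        ∀ u v, B (Matrix.toLin' (x : Matrix (Fin n) (Fin n) F) u)
          (Matrix.toLin' (x : Matrix (Fin n) (Fin n) F) v) = c * B u v := by
  obtain ⟨c, hc⟩ := h
  set P := Matrix.toLin' ((g⁻¹ : GL (Fin n) F) : Matrix (Fin n) (Fin n) F)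
  have hP : ∀ u, Matrix.toLin' (g : Matrix (Fin n) (Fin n) F) (P u) = u := fun u => by
    rw [← LinearMap.comp_apply, ← Matrix.toLin'_mul, ← Units.val_mul, mul_inv_cancel,
      Units.val_one, Matrix.toLin'_one, LinearMap.id_apply]
  have hP' : ∀ u, P (Matrix.toLin' (g : Matrix (Fin n) (Fin n) F) u) = u := fun u => by
    rw [← LinearMap.comp_apply, ← Matrix.toLin'_mul, ← Units.val_mul, inv_mul_cancel,
      Units.val_one, Matrix.toLin'_one, LinearMap.id_apply]
  set B : LinearMap.BilinForm F (Fin n → F) := (polarBilin (quad hQ)).compl₁₂ P P with hBdef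
  have hBa : ∀ u v, B u v = polar Q (P u) (P v) := fun u v => rfl
  have hsymm : ∀ u v, B u v = B v u := fun u v => by rw [hBa, hBa, polar_comm]
  have hnd : ∀ u, (∀ v, B u v = 0) → u = 0 := fun u hu => by
    have h1 : P u = 0 := quad_nondeg hQ _ fun y => by
      have h2 := hu (Matrix.toLin' (g : Matrix (Fin n) (Fin n) F) y)
      rwa [hBa, hP'] at h2
    rw [← hP u, h1, map_zero]
  refine ⟨B, hsymm, ⟨hnd, fun v hv => hnd v fun u => (hsymm v u).trans (hv u)⟩, c, c.ne_zero, hc,
    fun u v => ?_⟩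
  have hA : ∀ w, P (Matrix.toLin' (x : Matrix (Fin n) (Fin n) F) w) =
      ((g⁻¹ * x * g : GL (Fin n) F) : Matrix (Fin n) (Fin n) F) *ᵥ (P w) := fun w => by
    rw [← Matrix.toLin'_apply, Units.val_mul, Units.val_mul, Matrix.toLin'_mul, Matrix.toLin'_mul,
      LinearMap.comp_apply, LinearMap.comp_apply, hP]
  rw [hBa, hBa, hA, hA, polar, polar, ← Matrix.mulVec_add, hc, hc, hc]
  ring

section Scalar

variable {B : LinearMap.BilinForm F (Fin n → F)} {g : Module.End F (Fin n → F)} {c : F}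

theorem scalar_pow (h : ∀ u v, B (g u) (g v) = c * B u v) :
    ∀ k u v, B ((g ^ k) u) ((g ^ k) v) = c ^ k * B u v := by
  intro k
  induction k with
  | zero => intro u v; simp
  | succ k ih =>
    intro u v
    rw [pow_succ', Module.End.mul_apply, Module.End.mul_apply, h, ih, pow_succ', mul_assoc]

theorem scalar_root (hB : B.Nondegenerate) (hn : 0 < n) (h : ∀ u v, B (g u) (g v) = c * B u v)
    {r : ℕ} (hg : g ^ r = 1) : c ^ r = 1 := by
  obtain ⟨v, hv⟩ : ∃ v, B (Pi.single ⟨0, hn⟩ 1) v ≠ 0 := by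
    by_contra hc
    push Not at hc
    simpa using congrFun (hB.1 _ hc) ⟨0, hn⟩
  have h1 := scalar_pow h r (Pi.single ⟨0, hn⟩ 1) v
  rw [hg, Module.End.one_apply, Module.End.one_apply] at h1
  exact (mul_eq_right₀ hv).mp h1.symm

/-- Paired coordinates of a diagonal similitude. -/
theorem card_le_paired (hB : B.Nondegenerate) (w : Fin n → F)
    (h : ∀ u v, B (Matrix.toLin' (Matrix.diagonal w) u) (Matrix.toLin' (Matrix.diagonal w) v) = c * B u v)
    (a b : F) (hab : ∀ j, w j ≠ b → a * w j ≠ c) :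
    Nat.card {i // w i = a} ≤ Nat.card {j // w j = b} := by
  classical
  have hsingle : ∀ i, Matrix.toLin' (Matrix.diagonal w) (Pi.single i 1) = w i • Pi.single i (1 : F) := fun i => by
    funext k
    simp [Matrix.mulVec_diagonal, Pi.single_apply]
    split_ifs with hki <;> simp [hki]
  have hzero : ∀ i j, w i * w j ≠ c → B (Pi.single i 1) (Pi.single j 1) = 0 := fun i j hij => by
    have h1 := h (Pi.single i 1) (Pi.single j 1)
    rw [hsingle, hsingle, map_smul, map_smul, LinearMap.smul_apply, smul_eq_mul, smul_eq_mul, ← mul_assoc] at h1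
    by_contra h0
    exact hij (mul_right_cancel₀ h0 (by rw [← h1]; ring))
  let E : ({i // w i = a} → F) →ₗ[F] (Fin n → F) :=
    Fintype.linearCombination F fun i : {i // w i = a} => Pi.single i.1 1
  have hE : Function.Injective E := fun g g' h => funext fun i => by
    have := congrFun h i.1
    simpa [E, Fintype.linearCombination_apply, Pi.single_apply, Subtype.val_inj] using this
  let L : ({i // w i = a} → F) →ₗ[F] ({j // w j = b} → F) :=
    LinearMap.pi fun j => (B.flip (Pi.single j.1 1)).comp E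
  have hL : Function.Injective L := by
    rw [injective_iff_map_eq_zero]
    intro g hg
    refine (injective_iff_map_eq_zero E).mp hE g (hB.1 _ fun y => ?_)
    have hall : ∀ j, B (E g) (Pi.single j 1) = 0 := fun j => by
      by_cases hj : w j = b
      · exact congrFun hg ⟨j, hj⟩
      · simp only [E, Fintype.linearCombination_apply, map_sum, LinearMap.sum_apply, map_smul, LinearMap.smul_apply]
        refine Finset.sum_eq_zero fun i _ => ?_
        rw [hzero _ _ (i.2.symm ▸ hab j hj), smul_zero]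
    have h2 : B (E g) = 0 := (Pi.basisFun F (Fin n)).ext fun j => by simpa using hall j
    rw [h2, LinearMap.zero_apply]
  have h3 := LinearMap.finrank_le_finrank_of_injective hL
  rwa [finrank_fintype_fun_eq_card, finrank_fintype_fun_eq_card, ← Nat.card_eq_fintype_card,
    ← Nat.card_eq_fintype_card] at h3

end Scalar

/-- A diagonal element whose values are not paired by any `a ↦ c / a` is a mover. -/
theorem isMover_diagonal (hQ : Cfsg.Geo.IsNondegenerateQuadraticForm Q) {r : ℕ} (w : Fin n → F)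
    (hdet : ∏ i, w i = 1) {z : F} (hwr : ∀ i, w i ^ r = z) (hns : ∃ i j, w i ≠ w j)
    (hc : ∀ c : F, c ≠ 0 →
      ∃ a, a ≠ 0 ∧ Nat.card {j // w j = c / a} < Nat.card {i // w i = a}) :
    ∃ x, IsMover Q r x := by
  obtain ⟨x, hx, hxw⟩ := exists_gl (Matrix.toLin' (Matrix.diagonal w))
    (by rw [LinearMap.det_toLin', Matrix.det_diagonal, hdet])
  have hxM : (x : Matrix (Fin n) (Fin n) F) = Matrix.diagonal w := Matrix.toLin'.injective hxw
  refine ⟨x, hx, ⟨z, ?_⟩, fun t ht => ?_, fun g hg hmem => ?_⟩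
  · rw [Units.val_pow_eq_pow_val, hxM, Matrix.diagonal_pow, Matrix.smul_one_eq_diagonal]
    exact congrArg Matrix.diagonal (funext fun i => hwr i)
  · obtain ⟨i, j, hij⟩ := hns
    rw [hxM, Matrix.smul_one_eq_diagonal] at ht
    exact hij ((congrFun (Matrix.diagonal_injective ht) i).trans
      (congrFun (Matrix.diagonal_injective ht) j).symm)
  · obtain ⟨B, -, hB, c, hc0, -, hBc⟩ := exists_form hQ x g hmem
    rw [hxw] at hBc
    obtain ⟨a, ha, hlt⟩ := hc c hc0
    exact absurd (card_le_paired hB w hBc a (c / a) fun j hj hac => hj (by rw [← hac]; field_simp))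
      (by omega)

theorem exists_mover_of_witness (hQ : Cfsg.Geo.IsNondegenerateQuadraticForm Q) {r : ℕ}
    {w : Fin n → F} (hw : IsWitness r w) : ∃ x, IsMover Q r x := by
  obtain ⟨hdet, ⟨z, hz⟩, hns, hc⟩ := hw
  exact isMover_diagonal hQ w hdet hz hns hc

/-- Characteristic `r`: one block of size two. -/
theorem exists_mover_unipotent (hQ : Cfsg.Geo.IsNondegenerateQuadraticForm Q) {r : ℕ}
    [hr : Fact r.Prime] [CharP F r] (hr2 : r ≠ 2) (hn : 3 ≤ n) : ∃ x, IsMover Q r x := by
  have h2 : (2 : F) ≠ 0 := fun h => hr2 ((Nat.prime_dvd_prime_iff_eq hr.out Nat.prime_two).mp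
    ((CharP.cast_eq_zero_iff F r 2).mp (by exact_mod_cast h)))
  obtain ⟨s, d, y, hd, hd1, hdr, hyr, hns, ⟨C⟩⟩ := Lib.Elusive.UnipotentType.exists_sl (F := F) r n
    (2 ::ₘ Multiset.replicate (n - 2) 1) (by simp; omega) (fun a ha => by
      have := hr.out.two_le
      rcases Multiset.mem_cons.mp ha with rfl | ha
      · omega
      · rw [Multiset.eq_of_mem_replicate ha]; omega) ⟨2, Multiset.mem_cons_self _ _, by omega⟩
  refine ⟨Matrix.SpecialLinearGroup.toGL y, Units.ext y.2, ⟨1, ?_⟩, hns, fun g hg hP => ?_⟩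
  · rw [← map_pow, hyr, map_one, Units.val_one, one_smul]
  obtain ⟨B, hsymm, hB, c, -, -, hc⟩ := exists_form hQ _ g hP
  have hgr : Matrix.toLin' (y : Matrix (Fin n) (Fin n) F) ^ r = 1 := by
    rw [← Matrix.toLin'_pow, ← Matrix.SpecialLinearGroup.coe_pow, hyr,
      Matrix.SpecialLinearGroup.coe_one, Matrix.toLin'_one]
    rfl
  have hc1 : c = 1 := frobenius_inj F r (by
    rw [frobenius_def, frobenius_def, one_pow, scalar_root hB (by omega) hc hgr])
  have h3 := Lib.JordanType.even_count_of_symm (B := B)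
    (N := Matrix.toLin' (y : Matrix (Fin n) (Fin n) F) - 1) hB hsymm h2
    (fun u v => by simpa [hc1] using hc u v) C (j := 2) ⟨1, rfl⟩ two_pos
  rw [← Lib.Elusive.UnipotentType.count_parts, hd, Multiset.count_cons_self, Multiset.count_replicate,
    if_neg (by omega)] at h3
  exact absurd h3 (by decide)

/-- An isometry of odd dimension and determinant one fixes a nonzero vector. -/
theorem exists_fixed {V : Type*} [AddCommGroup V] [Module F V] [FiniteDimensional F V]
    (h2 : (2 : F) ≠ 0) {B : LinearMap.BilinForm F V} (hB : B.Nondegenerate) (hodd : Odd (finrank F V))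
    {T : Module.End F V} (hT : ∀ u v, B (T u) (T v) = B u v) (hdet : LinearMap.det T = 1) :
    ∃ v, v ≠ 0 ∧ T v = v := by
  classical
  let b := Module.finBasis F V
  have h1 : B.comp T (T - 1) = B.comp (1 - T) LinearMap.id := by
    ext u v; simp [hT]
  have h3 := congrArg (fun C => (LinearMap.BilinForm.toMatrix b C).det) h1
  simp only [LinearMap.BilinForm.toMatrix_comp b b, Matrix.det_mul, Matrix.det_transpose, LinearMap.det_toMatrix,
    hdet, one_mul, LinearMap.det_id, mul_one] at h3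
  rw [show (1 : Module.End F V) - T = (-1 : F) • (T - 1) by simp, LinearMap.det_smul,
    hodd.neg_one_pow] at h3
  have hG : (LinearMap.BilinForm.toMatrix b B).det ≠ 0 :=
    (LinearMap.BilinForm.nondegenerate_iff_det_ne_zero b).mp hB
  have h4 : LinearMap.det (T - 1) = 0 :=
    (mul_eq_zero.mp (show (2 * (LinearMap.BilinForm.toMatrix b B).det) * LinearMap.det (T - 1) = 0 by
      linear_combination h3)).resolve_left (mul_ne_zero h2 hG)
  obtain ⟨v, hv, hv0⟩ := Submodule.exists_mem_ne_zero_of_ne_bot (LinearMap.bot_lt_ker_of_det_eq_zero h4).ne'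
  exact ⟨v, hv0, eq_of_sub_eq_zero (by simpa using hv)⟩

variable [Fintype F]

theorem root_eq_one {r : ℕ} [hr : Fact r.Prime] (hr1 : ¬ r ∣ Fintype.card F - 1) (z : F)
    (hzr : z ^ r = 1) : z = 1 := by
  have hz : z ≠ 0 := fun h => by simp [h, hr.out.ne_zero] at hzr
  rcases (Nat.dvd_prime hr.out).mp (orderOf_dvd_of_pow_eq_one hzr) with h3 | h3
  · exact orderOf_eq_one_iff.mp h3
  · exact absurd (h3 ▸ orderOf_dvd_of_pow_eq_one (FiniteField.pow_card_sub_one_eq_one z hz)) hr1

/-- The piece of odd dimension, and the element without fixed vectors. -/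
theorem exists_mover_split (hQ : Cfsg.Geo.IsNondegenerateQuadraticForm Q) {r : ℕ} [hr : Fact r.Prime]
    (h2 : (2 : F) ≠ 0) (hrF : (r : F) ≠ 0) (hr1 : ¬ r ∣ Fintype.card F - 1) {i : ℕ}
    (hi : i = orderOf (Fintype.card F : ZMod r)) (hn : 0 < n)
    (h : (Odd i ∧ i ≤ n) ∨ (i ∣ n ∧ ¬ r ∣ levelCard (quad hQ) 1)) :
    ∃ x, IsMover Q r x := by
  subst hi
  set i := orderOf (Fintype.card F : ZMod r) with hi
  have hi0 : 0 < i := Lib.Elusive.orderOf_card_pos hrF
  have hroot := root_eq_one (F := F) hr1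
  have hrank : finrank F (Fin n → F) = n := finrank_fin_fun F
  obtain ⟨e, s, hes, he, hcase⟩ : ∃ e s, e + s * i = n ∧ e < n ∧ ((Odd i ∧ s = 1) ∨
      (e = 0 ∧ ¬ r ∣ levelCard (quad hQ) 1)) := by
    rcases h with ⟨h1, h2⟩ | ⟨⟨s, hs⟩, h2⟩
    · exact ⟨n - i, 1, by omega, by omega, Or.inl ⟨h1, rfl⟩⟩
    · exact ⟨0, s, by rw [hs]; ring, hn, Or.inr ⟨rfl, h2⟩⟩
  obtain ⟨g, hg, hge⟩ := Lib.Elusive.exists_split (V := Fin n → F) hrF e s (by rw [hrank]; exact hes.symm)
  obtain ⟨x, hxS, hx⟩ := exists_gl g (hroot _ (Lib.Elusive.det_pow_eq_one hg))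
  refine ⟨x, hxS, ⟨1, ?_⟩, fun z hz => ?_, fun P hPS hP => ?_⟩
  · rw [Lib.Elusive.Linear.eq_smul_one_iff, coe_pow_toLin, hx, hg, one_smul]
  · rw [Lib.Elusive.Linear.eq_smul_one_iff, hx] at hz
    subst hz
    rw [_root_.smul_pow, one_pow] at hg
    have hz1 : z ^ r = 1 := by
      simpa using congrFun (LinearMap.congr_fun hg (fun _ => 1)) (⟨0, hn⟩ : Fin n)
    have htop : End.eigenspace (z • (1 : Module.End F (Fin n → F))) 1 = ⊤ := by
      rw [eq_top_iff]
      intro v _
      rw [End.mem_eigenspace_iff, hroot z hz1]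
      simp
    rw [htop, finrank_top, hrank] at hge
    omega
  obtain ⟨B, hsymm, hB, c, -, hQc, hc⟩ := exists_form hQ x P hP
  rw [hx] at hc
  have hc1 : c = 1 := hroot c (scalar_root hB hn hc hg)
  rcases hcase with ⟨hodd, hs⟩ | ⟨he0, hlev⟩
  · subst hs
    have hu : Lib.Elusive.IsUniform g 1 i :=
      Lib.Elusive.isUniform_split hrF one_ne_zero (by rw [one_pow, one_smul, hg])
    obtain ⟨Z, hZ, -, hdisj, hsup⟩ := Lib.Elusive.exists_compl hu.semisimple (Lib.Elusive.Inv.top g)
      (Lib.Elusive.Inv.of_le_eigenspace (le_refl (End.eigenspace g (1 : F)))) le_top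
    have hZd : finrank F Z = i := by
      have h1 := Lib.Elusive.finrank_sup_of_disjoint (F := F) hdisj
      rw [hsup, finrank_top, hrank, hge] at h1
      omega
    let T : Module.End F Z := g.restrict (p := Z) (q := Z) fun y hy => hZ.mem hy
    have hfix : ∀ y : Z, T y = y → y = 0 := fun y hy => by
      have hy' : (y : Fin n → F) ∈ End.eigenspace g (1 : F) ⊓ Z := ⟨End.mem_eigenspace_iff.mpr (by
        rw [one_smul]; exact congrArg Subtype.val hy), y.2⟩
      rw [hdisj] at hy'
      exact Subtype.ext hy'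
    have hperp : ∀ p ∈ Z, ∀ v ∈ End.eigenspace g (1 : F), B p v = 0 := by
      intro p hp v hv
      have hinj : Function.Injective (T - 1 : Module.End F Z) := by
        rw [injective_iff_map_eq_zero]
        exact fun y hy => hfix y (eq_of_sub_eq_zero hy)
      obtain ⟨y, hy⟩ := LinearMap.injective_iff_surjective.mp hinj ⟨p, hp⟩
      have hy' : g (y : Fin n → F) - (y : Fin n → F) = p := congrArg Subtype.val hy
      have hgv : g v = v := by simpa using End.mem_eigenspace_iff.mp hv
      have h2 := hc (y : Fin n → F) v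
      rw [hgv, hc1, one_mul] at h2
      rw [← hy', map_sub, LinearMap.sub_apply, h2, sub_self]
    have hflip : ∀ u v, B u v = 0 → B v u = 0 := fun u v h => (hsymm v u).trans h
    have hZB : (B.restrict Z).Nondegenerate := by
      have hl : ∀ z : Z, (∀ y : Z, B z y = 0) → z = 0 := fun z hz => by
        refine Subtype.ext (hB.1 _ fun y => ?_)
        obtain ⟨a, ha, b, hb, rfl⟩ := Submodule.mem_sup.mp (hsup.ge (Submodule.mem_top (x := y)))
        rw [map_add, hperp _ z.2 a ha, zero_add]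
        exact hz ⟨b, hb⟩
      exact ⟨fun z hz => hl z hz, fun z hz => hl z fun y => hflip _ _ (hz y)⟩
    have hT : ∀ u v, B.restrict Z (T u) (T v) = B.restrict Z u v := fun u v => by
      show B (g u) (g v) = B u v
      rw [hc, hc1, one_mul]
    have hTr : T ^ r = 1 := by
      ext y : 1
      apply Subtype.ext
      rw [Module.End.pow_restrict r (fun y hy => hZ.mem hy)]
      simp [hg]
    obtain ⟨v, hv0, hv⟩ := exists_fixed h2 hZB (hZd ▸ hodd) hT (hroot _ (Lib.Elusive.det_pow_eq_one hTr))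
    exact hv0 (hfix v hv)
  · subst he0
    set y := P⁻¹ * x * P with hy
    let φ : orth (quad hQ) := ⟨glEquiv y, fun v => by
      rw [glEquiv_apply, quad_apply, quad_apply, hQc, hc1, one_mul]⟩
    have hyr : y ^ r = 1 := by
      have hxr : x ^ r = 1 := Units.ext (Matrix.toLin'.injective (by
        rw [coe_pow_toLin, hx, hg, Units.val_one, Matrix.toLin'_one]; rfl))
      rw [hy, show P⁻¹ * x * P = MulAut.conj P⁻¹ x by simp, ← map_pow, hxr, map_one]
    refine hlev (Lib.Elusive19.dvd_levelCard φ (Subtype.ext ?_) fun v hv => ?_)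
    · show glEquiv y ^ r = 1
      rw [← map_pow, hyr, map_one]
    · have hPv : x.1 *ᵥ (P.1 *ᵥ v) = P.1 *ᵥ v := by
        have h' : y.1 *ᵥ v = v := hv
        conv_rhs => rw [← h']
        rw [Matrix.mulVec_mulVec, Matrix.mulVec_mulVec, ← Units.val_mul, ← Units.val_mul]
        rw [hy]; group
      have hmem : P.1 *ᵥ v ∈ End.eigenspace g (1 : F) := End.mem_eigenspace_iff.mpr (by
        rw [one_smul, ← hx, Matrix.toLin'_apply, hPv])
      rw [Submodule.finrank_eq_zero.mp hge, Submodule.mem_bot] at hmem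
      have := congrArg (fun u => (P⁻¹).1 *ᵥ u) hmem
      simpa [Matrix.mulVec_mulVec] using this

end Cfsg.Agent.Lib.ElusiveOrth
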