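import Mathlib
import Cfsg.Agent.Lib.ElusiveOrth.Derange

/-!
The index of the similitude group in `SL(n, q)`, `q` odd, and the derangements it gives.
Owner: helper86.
-/

set_option autoImplicit false

namespace Cfsg.Agent.Lib.ElusiveOrth

open Module QuadraticMap Cfsg.Agent.Lib.Forms
open scoped Matrix

variable {F : Type*} [Field F] [Fintype F] {n : ℕ} {Q : (Fin n → F) → F}

theorem qPlus_equiv_prod_zero (m : ℕ) :
    (qPlus (F := F) m).Equivalent ((qPlus m).prod (qPlus (F := F) 0)) :=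
  ⟨{ toFun := fun x => (x, 0)
     map_add' := fun x y => Prod.ext rfl (by simp)
     map_smul' := fun a x => Prod.ext rfl (by simp)
     invFun := fun p => p.1
     left_inv := fun x => rfl
     right_inv := fun p => Prod.ext rfl (Subsingleton.elim _ _)
     map_app' := fun x => by simp [QuadraticMap.prod_apply] }⟩

theorem sum_range_eq (q : ℕ) : ∀ m, (∏ i ∈ Finset.range m, (q ^ i + 1)) * (q ^ m + 1) =
    2 * ∏ i ∈ Finset.range m, (q ^ (i + 1) + 1) := by
  intro m
  have h := Finset.prod_range_succ (fun i => q ^ i + 1) m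
  rw [← h, Finset.prod_range_succ', pow_zero, mul_comm]

theorem sq_sub_one (q i : ℕ) : q ^ (2 * (i + 1)) - 1 = (q ^ (i + 1) - 1) * (q ^ (i + 1) + 1) := by
  rw [mul_comm, pow_mul, ← one_pow 2, Nat.sq_sub_sq, one_pow, mul_comm]

/-- Orders and level sets, uniformly in the three types. -/
theorem type_data {Qf : QuadraticForm F (Fin n → F)} (hQ : Nondeg Qf) (hn : 3 ≤ n) :
    ∃ m X e : ℕ, 2 * m ≤ n ∧ n ≤ 2 * m + 1 ∧
      Nat.card (orth Qf) * X =
        2 * Fintype.card F ^ e * ∏ i ∈ Finset.range m, (Fintype.card F ^ (2 * (i + 1)) - 1) ∧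
      ((n = 2 * m + 1 ∧ X = 1) ∨
       (n = 2 * m ∧ ∀ r : ℕ, r.Prime → r ≠ 2 → r ∣ X →
          r ∣ Fintype.card F ^ n - 1 ∧ (¬ r ∣ Fintype.card F → ¬ r ∣ levelCard Qf 1))) := by
  classical
  set q := Fintype.card F with hq
  have hqc : Nat.card F = q := Nat.card_eq_fintype_card
  have hq1 : 1 < q := Fintype.one_lt_card
  have hsplit : ∀ m, ∏ i ∈ Finset.range m, (q ^ (2 * (i + 1)) - 1) =
      (∏ i ∈ Finset.range m, (q ^ (i + 1) - 1)) * ∏ i ∈ Finset.range m, (q ^ (i + 1) + 1) := fun m => by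
    rw [← Finset.prod_mul_distrib]
    exact Finset.prod_congr rfl fun i _ => sq_sub_one q i
  have hcard := finrank_fin_fun F (n := n)
  rcases classify Qf hQ with ⟨m, hdim, he⟩ | ⟨m, c, hc, h2, hdim, he⟩ | ⟨m, a, b, hab, hdim, he⟩
  · rw [hcard] at hdim
    have he' := he.trans (qPlus_equiv_prod_zero m)
    have hA : (qPlus (F := F) 0).Anisotropic := fun x _ => Subsingleton.elim _ _
    have hf0 : finrank F (Fin 0 ⊕ Fin 0 → F) = 0 := by simp
    refine ⟨m, q ^ m + 1, ∑ i ∈ Finset.range m, 2 * i, by omega, by omega, ?_, Or.inr ⟨hdim, fun r hr hr2 hX => ⟨?_, fun hrq hlev => ?_⟩⟩⟩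
    · rw [card_orth_congr he', card_orth_plus_prod (qPlus_nondeg 0) hA, card_orth_subsingleton,
        one_mul, hqc, hf0, hsplit]
      simp only [Nat.add_zero]
      rw [← Finset.prod_pow_eq_pow_sum, Finset.prod_mul_distrib, Finset.prod_mul_distrib]
      linear_combination (∏ i ∈ Finset.range m, (q ^ (i + 1) - 1)) *
        (∏ i ∈ Finset.range m, q ^ (2 * i)) * sum_range_eq q m
    · rw [hdim, mul_comm 2 m, pow_mul, ← one_pow 2, Nat.sq_sub_sq]
      exact hX.mul_right _
    · rw [levelCard, card_level_congr he', ← levelCard, levelCard_plus_prod, hqc, hf0] at hlev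
      have h0 : levelCard (qPlus (F := F) 0) 1 = 0 := by
        haveI : IsEmpty {v // qPlus (F := F) 0 v = 1} := ⟨fun v => by
          have h := v.2
          rw [Subsingleton.elim v.1 0, QuadraticMap.map_zero] at h
          exact zero_ne_one h⟩
        exact Nat.card_of_isEmpty
      rw [h0, mul_zero, zero_add] at hlev
      rcases hr.dvd_mul.mp hlev with h | h
      · have h' := Nat.dvd_sub hX h
        rw [show q ^ m + 1 - (q ^ m - 1) = 2 by
          have := Nat.one_le_pow m q (by omega); omega] at h'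
        exact hr2 ((Nat.prime_dvd_prime_iff_eq hr Nat.prime_two).mp h')
      · exact hrq (hr.dvd_of_dvd_pow h)
  · rw [hcard] at hdim
    refine ⟨m, 1, ∑ i ∈ Finset.range m, (2 * i + 1), by omega, by omega, ?_, Or.inl ⟨hdim, rfl⟩⟩
    have hA : (qOne c).Anisotropic := fun x hx => by
      rw [qOne_apply] at hx
      exact mul_self_eq_zero.mp ((mul_eq_zero.mp hx).resolve_left hc)
    rw [card_orth_congr he, card_orth_plus_prod (qOne_nondeg hc h2) hA, card_orth_qOne hc h2,
      hqc, finrank_self, hsplit, mul_one, Finset.prod_mul_distrib, Finset.prod_mul_distrib,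
      ← Finset.prod_pow_eq_pow_sum]
    ring
  · rw [hcard] at hdim
    refine ⟨m + 1, q ^ (m + 1) - 1, ∑ i ∈ Finset.range m, (2 * i + 2), by omega, by omega, ?_,
      Or.inr ⟨by omega, fun r hr hr2 hX => ⟨?_, fun hrq hlev => ?_⟩⟩⟩
    · rw [card_orth_congr he, card_orth_plus_prod (qBin_nondeg hab) (qBin_anisotropic hab),
        card_orth_qBin hab, hqc, finrank_fintype_fun_eq_card, Fintype.card_fin, hsplit,
        Finset.prod_mul_distrib, Finset.prod_mul_distrib, ← Finset.prod_pow_eq_pow_sum,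
        Finset.prod_range_succ (fun i => q ^ (i + 1) - 1),
        Finset.prod_range_succ' (fun i => q ^ (i + 1) + 1)]
      simp only [Nat.zero_add, pow_one]
      ring
    · rw [show n = 2 * (m + 1) by omega, sq_sub_one]
      exact hX.mul_right _
    · rw [levelCard, card_level_congr he, ← levelCard, levelCard_plus_prod, levelCard_qBin hab one_ne_zero,
        hqc, finrank_fintype_fun_eq_card, Fintype.card_fin, show m + 2 - 1 = m + 1 from rfl] at hlev
      have h1 : 1 ≤ q ^ m := Nat.one_le_pow _ _ (by omega)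
      rw [show q ^ m * (q + 1) + (q ^ m - 1) * q ^ (m + 1) = q ^ m * (q ^ (m + 1) + 1) by
        obtain ⟨k, hk⟩ : ∃ k, q ^ m = k + 1 := ⟨q ^ m - 1, by omega⟩
        rw [pow_succ, hk, Nat.add_sub_cancel]; ring] at hlev
      rcases hr.dvd_mul.mp hlev with h | h
      · exact hrq (hr.dvd_of_dvd_pow h)
      · have h' := Nat.dvd_sub h hX
        rw [show q ^ (m + 1) + 1 - (q ^ (m + 1) - 1) = 2 by
          have := Nat.one_le_pow (m + 1) q (by omega); omega] at h'
        exact hr2 ((Nat.prime_dvd_prime_iff_eq hr Nat.prime_two).mp h')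

theorem exists_prod_odd {q m n : ℕ} (h1 : 2 * m ≤ n) (h2 : n ≤ 2 * m + 1) :
    ∃ R : ℕ, ∏ i ∈ Finset.range n, (q ^ (i + 1) - 1) =
        (∏ i ∈ Finset.range m, (q ^ (2 * (i + 1)) - 1)) * R ∧
      ∀ r : ℕ, r.Prime → r ∣ R → ∃ j, Odd j ∧ j ≤ n ∧ r ∣ q ^ j - 1 := by
  have hs : ∀ k, ∏ i ∈ Finset.range (2 * k), (q ^ (i + 1) - 1) =
      (∏ i ∈ Finset.range k, (q ^ (2 * (i + 1)) - 1)) * ∏ i ∈ Finset.range k, (q ^ (2 * i + 1) - 1) := by
    intro k
    induction k with
    | zero => simp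
    | succ k ih =>
      rw [Nat.mul_succ, Finset.prod_range_succ, Finset.prod_range_succ, ih, Finset.prod_range_succ,
        Finset.prod_range_succ]
      ring
  obtain ⟨k, hk1, hk2, hR⟩ : ∃ k, 2 * k ≤ n + 1 ∧ True ∧ ∏ i ∈ Finset.range n, (q ^ (i + 1) - 1) =
      (∏ i ∈ Finset.range m, (q ^ (2 * (i + 1)) - 1)) * ∏ i ∈ Finset.range k, (q ^ (2 * i + 1) - 1) := by
    rcases h2.lt_or_eq with h | h
    · obtain rfl : n = 2 * m := by omega
      exact ⟨m, by omega, trivial, hs m⟩
    · subst h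
      refine ⟨m + 1, by omega, trivial, ?_⟩
      rw [Finset.prod_range_succ, hs, Finset.prod_range_succ (fun i => q ^ (2 * i + 1) - 1), mul_assoc]
  refine ⟨_, hR, fun r hr hd => ?_⟩
  obtain ⟨i, hi, hd⟩ := (Prime.dvd_finsetProd_iff hr.prime _).mp hd
  rw [Finset.mem_range] at hi
  exact ⟨2 * i + 1, ⟨i, rfl⟩, by omega, hd⟩

theorem card_specialLinear :
    Nat.card (Cfsg.Geo.specialLinear (Fin n) F) = Nat.card (Matrix.SpecialLinearGroup (Fin n) F) :=
  Nat.card_congr (Cfsg.Agent.Lib.Linear.slEquivKerDet (ι := Fin n) (F := F)).toEquiv.symm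

/-- What a prime divisor of the index gives. -/
theorem arith_of_index (hQ : Cfsg.Geo.IsNondegenerateQuadraticForm Q) (hn : 3 ≤ n) {r : ℕ}
    [hr : Fact r.Prime] (hr2 : r ≠ 2) (hrq : ¬ r ∣ Fintype.card F) (hr1 : ¬ r ∣ Fintype.card F - 1)
    (hΩ : r ∣ (Cfsg.Geo.quadSimilarityGroup Q).relIndex (Cfsg.Geo.specialLinear (Fin n) F)) :
    (∃ j, Odd j ∧ j ≤ n ∧ r ∣ Fintype.card F ^ j - 1) ∨
      (r ∣ Fintype.card F ^ n - 1 ∧ ¬ r ∣ levelCard (quad hQ) 1) := by
  classical
  set q := Fintype.card F with hq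
  obtain ⟨m, X, e, hm1, hm2, hO, hcase⟩ := type_data (quad_nondeg hQ) hn
  obtain ⟨R, hR, hRr⟩ := exists_prod_odd (q := q) hm1 hm2
  haveI : Finite ((Fin n → F) ≃ₗ[F] (Fin n → F)) :=
    Finite.of_injective (fun g v => g v) fun g g' h => LinearEquiv.ext (congrFun h)
  let d : orth (quad hQ) →* Fˣ := LinearEquiv.det.comp (orth (quad hQ)).subtype
  let φ : d.ker →* GL (Fin n) F :=
    glEquiv.symm.toMonoidHom.comp ((orth (quad hQ)).subtype.comp d.ker.subtype)
  have hφ : Function.Injective φ :=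
    glEquiv.symm.injective.comp (Subtype.val_injective.comp Subtype.val_injective)
  have hval : ∀ g : d.ker, glEquiv (φ g) = ((g : orth (quad hQ)) : (Fin n → F) ≃ₗ[F] (Fin n → F)) :=
    fun g => glEquiv.apply_symm_apply _
  have hSL : φ.range ≤ Cfsg.Geo.specialLinear (Fin n) F := by
    rintro _ ⟨g, rfl⟩
    refine Units.ext ?_
    have h1 : LinearMap.det (Matrix.toLin' ((φ g : GL (Fin n) F) : Matrix (Fin n) (Fin n) F)) = 1 := by
      rw [show Matrix.toLin' ((φ g : GL (Fin n) F) : Matrix (Fin n) (Fin n) F) =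
        (((g : orth (quad hQ)) : (Fin n → F) ≃ₗ[F] (Fin n → F)) : (Fin n → F) →ₗ[F] (Fin n → F)) from
        LinearMap.ext fun v => by rw [Matrix.toLin'_apply, LinearEquiv.coe_coe, ← hval, glEquiv_apply],
        ← LinearEquiv.coe_det]
      exact congrArg Units.val g.2
    rwa [LinearMap.det_toLin'] at h1
  have hle : φ.range ≤ Cfsg.Geo.quadSimilarityGroup Q := by
    rintro _ ⟨g, rfl⟩
    refine ⟨1, fun v => ?_⟩
    rw [Units.val_one, one_mul, ← glEquiv_apply, hval]
    exact (g : orth (quad hQ)).2 v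
  have h1 : r ∣ φ.range.relIndex (Cfsg.Geo.specialLinear (Fin n) F) :=
    hΩ.trans (Subgroup.relIndex_dvd_of_le_left _ hle)
  have h2 : φ.range.relIndex (Cfsg.Geo.specialLinear (Fin n) F) * Nat.card φ.range =
      Nat.card (Cfsg.Geo.specialLinear (Fin n) F) := by
    rw [Subgroup.relIndex, ← Nat.card_congr (Subgroup.subgroupOfEquivOfLe hSL).toEquiv,
      Subgroup.index_mul_card]
  rw [Nat.card_congr (MonoidHom.ofInjective hφ).toEquiv.symm, card_specialLinear] at h2
  have hK := Subgroup.index_mul_card d.ker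
  have hidx : d.ker.index ∣ q - 1 := by
    rw [Subgroup.index_ker, hq, ← Fintype.card_units, ← Nat.card_eq_fintype_card]
    exact Subgroup.card_subgroup_dvd_card _
  have h3 := Lib.Linear.sub_one_mul_card_SL (F := F) n (by omega)
  rw [← h2, ← hq] at h3
  have h4 : ∏ i : Fin n, (q ^ n - q ^ (i : ℕ)) =
      q ^ (∑ i ∈ Finset.range n, i) * ∏ i ∈ Finset.range n, (q ^ (i + 1) - 1) := by
    rw [Fin.prod_univ_eq_prod_range (fun i => q ^ n - q ^ i), ← Finset.prod_range_reflect (fun i => q ^ (i + 1) - 1),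
      ← Finset.prod_pow_eq_pow_sum, ← Finset.prod_mul_distrib]
    refine Finset.prod_congr rfl fun i hi => ?_
    rw [Finset.mem_range] at hi
    rw [Nat.mul_sub_one, ← pow_add, show i + (n - 1 - i + 1) = n by omega]
  rw [h4, hR] at h3
  have hq1 : 1 < q := Fintype.one_lt_card
  have hpos : 0 < ∏ i ∈ Finset.range m, (q ^ (2 * (i + 1)) - 1) :=
    Finset.prod_pos fun i _ => Nat.sub_pos_of_lt (Nat.one_lt_pow (by omega) hq1)
  set A := ∏ i ∈ Finset.range m, (q ^ (2 * (i + 1)) - 1) with hA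
  set N := φ.range.relIndex (Cfsg.Geo.specialLinear (Fin n) F) with hN
  have h5 : (q - 1) * N * (2 * q ^ e) =
      d.ker.index * q ^ (∑ i ∈ Finset.range n, i) * R * X := by
    refine Nat.eq_of_mul_eq_mul_left hpos ?_
    rw [← hK] at hO
    calc A * ((q - 1) * N * (2 * q ^ e)) = (q - 1) * N * (2 * q ^ e * A) := by ring
      _ = (q - 1) * N * (d.ker.index * Nat.card d.ker * X) := by rw [hO]
      _ = d.ker.index * X * ((q - 1) * (N * Nat.card d.ker)) := by ring
      _ = A * (d.ker.index * q ^ (∑ i ∈ Finset.range n, i) * R * X) := by rw [h3]; ring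
  have h7 : r ∣ d.ker.index * q ^ (∑ i ∈ Finset.range n, i) * R * X :=
    h5 ▸ (h1.mul_left _).mul_right _
  rcases hr.out.dvd_mul.mp h7 with h8 | h8
  · rcases hr.out.dvd_mul.mp h8 with h9 | h9
    · rcases hr.out.dvd_mul.mp h9 with h10 | h10
      · exact absurd (h10.trans hidx) hr1
      · exact absurd (hr.out.dvd_of_dvd_pow h10) hrq
    · exact Or.inl (hRr r hr.out h9)
  · rcases hcase with ⟨-, hX⟩ | ⟨-, hX⟩
    · rw [hX] at h8
      exact absurd (Nat.dvd_one.mp h8) hr.out.ne_one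
    · obtain ⟨ha, hb⟩ := hX r hr.out hr2 h8
      exact Or.inr ⟨ha, hb hrq⟩

/-- Derangements for every odd prime divisor of the index outside the two exceptional cases. -/
theorem exists_mover {p : ℕ} [hp : Fact p.Prime] [CharP F p] (hQ : Cfsg.Geo.IsNondegenerateQuadraticForm Q)
    (hodd : Odd (Fintype.card F)) (hn : 3 ≤ n) {r : ℕ} [hr : Fact r.Prime] (hr2 : r ≠ 2)
    (hgap : ¬ (n = 6 ∧ r = 3))
    (hexc : ¬ ((r = 3 ∨ r = 5) ∧ n = r ∧ padicValNat r (Fintype.card F - 1) = 1))
    (hΩ : r ∣ (Cfsg.Geo.quadSimilarityGroup Q).relIndex (Cfsg.Geo.specialLinear (Fin n) F)) :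
    ∃ x, IsMover Q r x := by
  classical
  by_cases hrp : r = p
  · subst hrp
    exact exists_mover_unipotent hQ hr2 hn
  have hrF : (r : F) ≠ 0 := fun h0 =>
    hrp ((Nat.prime_dvd_prime_iff_eq Fact.out Fact.out).mp ((CharP.cast_eq_zero_iff F p r).mp h0)).symm
  have hrq : ¬ r ∣ Fintype.card F := fun hd => by
    obtain ⟨e, -, h⟩ := FiniteField.card F p
    rw [h] at hd
    exact hrp ((Nat.prime_dvd_prime_iff_eq Fact.out Fact.out).mp (hr.out.dvd_of_dvd_pow hd))
  have h2F : (2 : F) ≠ 0 := Ring.two_ne_zero fun h =>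
    Nat.not_even_iff_odd.mpr hodd (Nat.even_iff.mpr (FiniteField.even_card_of_char_two h))
  have hr3 : 3 ≤ r := lt_of_le_of_ne hr.out.two_le (Ne.symm hr2)
  by_cases hr1 : r ∣ Fintype.card F - 1
  · have hgen : ∀ k, r ^ k ∣ Fintype.card F - 1 → ∃ u : F, orderOf u = r ^ k := fun k hk => by
      obtain ⟨g, hg⟩ := IsCyclic.exists_generator (α := Fˣ)
      have ho : orderOf g = Fintype.card F - 1 := by
        rw [orderOf_eq_card_of_forall_mem_zpowers hg, Nat.card_units, Nat.card_eq_fintype_card]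
      have hq1 : 1 < Fintype.card F := Fintype.one_lt_card
      exact ⟨((g ^ ((Fintype.card F - 1) / r ^ k) : Fˣ) : F), by
        rw [orderOf_units, ← ho]
        exact orderOf_pow_orderOf_div (x := g) (by omega) (ho ▸ hk)⟩
    obtain ⟨ζ, hζ⟩ := hgen 1 (by rwa [pow_one])
    rw [pow_one] at hζ
    by_cases hroot : n = r ∧ 2 ≤ padicValNat r (Fintype.card F - 1)
    · obtain ⟨ε, hε⟩ := hgen 2 ((pow_dvd_pow r hroot.2).trans pow_padicValNat_dvd)
      obtain ⟨w, hw, -⟩ := exists_witness_of_root_sq hr2 hroot.1 hε (RingHom.id F) rfl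
      exact exists_mover_of_witness hQ hw
    have hne : ¬ ((r = 3 ∨ r = 5) ∧ n = r) := by
      rintro ⟨h35, hnr⟩
      have hq1 : 1 < Fintype.card F := Fintype.one_lt_card
      have := one_le_padicValNat_of_dvd (p := r) (by omega) hr1
      exact hexc ⟨h35, hnr, by
        have := not_and.mp hroot hnr
        omega⟩
    by_cases h3 : r = 3
    · subst h3
      obtain ⟨w, hw, -⟩ := exists_witness_three (n := n) hζ (by
        rcases hn.lt_or_eq with h | h
        · omega
        · exact absurd ⟨Or.inl rfl, h.symm⟩ hne) (fun h => hgap ⟨h, rfl⟩) (RingHom.id F) rfl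
      exact exists_mover_of_witness hQ hw
    · have hr5 : 5 ≤ r := by
        rcases Nat.lt_or_ge r 5 with h | h
        · have : r = 4 := by omega
          exact absurd hr.out (this ▸ by norm_num)
        · exact h
      obtain ⟨w, hw, -⟩ := exists_witness_five (n := n) hζ hr.out hr5 hn
        (fun h => hne ⟨Or.inr h.2, h.1.trans h.2.symm⟩) (RingHom.id F) rfl
      exact exists_mover_of_witness hQ hw
  · have hcast : ∀ j, r ∣ Fintype.card F ^ j - 1 → orderOf (Fintype.card F : ZMod r) ∣ j := fun j hd => by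
      rw [← ZMod.natCast_eq_zero_iff, Nat.cast_sub (Nat.one_le_pow _ _ Fintype.card_pos), Nat.cast_pow,
        Nat.cast_one, sub_eq_zero] at hd
      exact orderOf_dvd_of_pow_eq_one hd
    refine exists_mover_split hQ h2F hrF hr1 rfl (by omega) ?_
    rcases arith_of_index hQ hn hr2 hrq hr1 hΩ with ⟨j, hj, hjn, hd⟩ | ⟨hd, hlev⟩
    · exact Or.inl ⟨hj.of_dvd_nat (hcast j hd), (Nat.le_of_dvd hj.pos (hcast j hd)).trans hjn⟩
    · exact Or.inr ⟨hcast n hd, hlev⟩

end Cfsg.Agent.Lib.ElusiveOrth
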