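import Mathlib
import Cfsg.Agent.Lib.ElusiveOrth.Derange
import Cfsg.Agent.Lib.ExtInvolution.NormalForm

/-!
Elements of `SL(n, q)`, `q` odd, with a conjugate among the similitudes of a quadratic form:
involutions modulo scalars, and elements of order `r = n ∈ {3, 5}` when `v_r(q - 1) = 1`.
Owner: helper86.
-/

set_option autoImplicit false

namespace Cfsg.Agent.Lib.ElusiveOrth

open Module QuadraticMap Cfsg.Agent.Lib.Forms
open scoped Matrix

variable {F : Type*} [Field F] {n : ℕ} {Q : (Fin n → F) → F}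

theorem mem_simil (hQ : Cfsg.Geo.IsNondegenerateQuadraticForm Q) {y : GL (Fin n) F} {c : F} (hc : c ≠ 0)
    (h : ∀ v, quad hQ (Matrix.toLin' (y : Matrix (Fin n) (Fin n) F) v) = c * quad hQ v) :
    y ∈ Cfsg.Geo.quadSimilarityGroup Q :=
  ⟨Units.mk0 c hc, fun v => h v⟩

theorem conj_mem_simil (hQ : Cfsg.Geo.IsNondegenerateQuadraticForm Q) (x g : GL (Fin n) F)
    {y : Module.End F (Fin n → F)} {c : F} (hc : c ≠ 0)
    (hy : ∀ v, quad hQ (y v) = c * quad hQ v)
    (hxy : Matrix.toLin' (x : Matrix (Fin n) (Fin n) F) * Matrix.toLin' (g : Matrix (Fin n) (Fin n) F) =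
      Matrix.toLin' (g : Matrix (Fin n) (Fin n) F) * y) :
    g⁻¹ * x * g ∈ Cfsg.Geo.quadSimilarityGroup Q := by
  refine mem_simil hQ hc fun v => ?_
  have h : Matrix.toLin' ((g⁻¹ * x * g : GL (Fin n) F) : Matrix (Fin n) (Fin n) F) = y := by
    rw [Units.val_mul, Units.val_mul, Matrix.mul_assoc, Matrix.toLin'_mul, Matrix.toLin'_mul,
      ← Module.End.mul_eq_comp, ← Module.End.mul_eq_comp, hxy, ← mul_assoc,
      show Matrix.toLin' ((g⁻¹ : GL (Fin n) F) : Matrix (Fin n) (Fin n) F) *
          Matrix.toLin' (g : Matrix (Fin n) (Fin n) F) = 1 by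
        rw [Module.End.mul_eq_comp, ← Matrix.toLin'_mul, ← Units.val_mul, inv_mul_cancel, Units.val_one,
          Matrix.toLin'_one]
        rfl, one_mul]
  rw [h]
  exact hy v

/-- An element diagonal in some basis, with values those of a diagonal similitude. -/
theorem exists_conj_diag (hQ : Cfsg.Geo.IsNondegenerateQuadraticForm Q) (x : GL (Fin n) F)
    {ι : Type} [Fintype ι] [DecidableEq ι] (b e : Basis ι F (Fin n → F)) (i₀ : ι) (w : ι → F)
    (hb : ∀ i, Matrix.toLin' (x : Matrix (Fin n) (Fin n) F) (b i) = w i • b i)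
    (y : Module.End F (Fin n → F)) (hy : ∀ i, y (e i) = w i • e i) {c : F} (hc : c ≠ 0)
    (hyc : ∀ v, quad hQ (y v) = c * quad hQ v) :
    ∃ g ∈ Cfsg.Geo.specialLinear (Fin n) F, g⁻¹ * x * g ∈ Cfsg.Geo.quadSimilarityGroup Q := by
  let g₀ : (Fin n → F) ≃ₗ[F] (Fin n → F) := e.equiv b (Equiv.refl _)
  set d := LinearMap.det (g₀ : (Fin n → F) →ₗ[F] (Fin n → F))
  have hd : d ≠ 0 := (LinearEquiv.isUnit_det' g₀).ne_zero
  let u : ι → F := Function.update (fun _ => 1) i₀ d⁻¹
  let k : Module.End F (Fin n → F) := Matrix.toLin b b (Matrix.diagonal u)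
  have hk : ∀ i, k (b i) = u i • b i := fun i => by
    rw [Matrix.toLin_self, Finset.sum_eq_single i]
    · simp
    · intro j _ hj; simp [Matrix.diagonal_apply_ne _ hj]
    · simp
  have hkdet : LinearMap.det k = d⁻¹ := by
    rw [LinearMap.det_toLin, Matrix.det_diagonal, Finset.prod_eq_single i₀
      (fun i _ hi => by simp [u, hi]) (by simp)]
    simp [u]
  obtain ⟨g, hg, hgl⟩ := exists_gl (k * (g₀ : (Fin n → F) →ₗ[F] (Fin n → F)))
    (by rw [map_mul, hkdet, inv_mul_cancel₀ hd])
  refine ⟨g, hg, conj_mem_simil hQ x g hc hyc ?_⟩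
  refine e.ext fun i => ?_
  rw [hgl]
  simp only [Module.End.mul_apply, hy, map_smul, LinearEquiv.coe_coe, g₀, Basis.equiv_apply,
    Equiv.refl_apply, hk, hb, smul_smul, mul_comm]

/-- An orthogonal basis. -/
theorem exists_orth_basis (hQ : Cfsg.Geo.IsNondegenerateQuadraticForm Q) (h2 : (2 : F) ≠ 0) :
    ∃ v : Basis (Fin n) F (Fin n → F), (∀ i j, i ≠ j → polarBilin (quad hQ) (v i) (v j) = 0) ∧
      ∀ i, polarBilin (quad hQ) (v i) (v i) ≠ 0 := by
  haveI : Invertible (2 : F) := invertibleOfNonzero h2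
  have hsymm : (polarBilin (quad hQ)).IsSymm := ⟨fun a b => polar_comm (quad hQ) a b⟩
  obtain ⟨v, hv⟩ := LinearMap.BilinForm.exists_orthogonal_basis hsymm
  let v' : Basis (Fin n) F (Fin n → F) := v.reindex (finCongr (finrank_fin_fun F))
  have ho : LinearMap.IsOrthoᵢ (polarBilin (quad hQ)) v' := fun i j hij => by
    show polarBilin (quad hQ) (v' i) (v' j) = 0
    simp only [v', Basis.reindex_apply]
    exact hv fun h => hij ((finCongr (finrank_fin_fun F)).symm.injective h)
  exact ⟨v', fun i j hij => ho hij,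
    fun i => LinearMap.IsOrthoᵢ.not_isOrtho_basis_self_of_separatingLeft ho
      (quad_nondeg hQ).polarBilin.1 i⟩

theorem simil_of_basis (hQ : Cfsg.Geo.IsNondegenerateQuadraticForm Q) (h2 : (2 : F) ≠ 0)
    {ι : Type} (v : Basis ι F (Fin n → F)) (y : Module.End F (Fin n → F)) (c : F)
    (h : ∀ i j, polarBilin (quad hQ) (y (v i)) (y (v j)) = c * polarBilin (quad hQ) (v i) (v j)) :
    ∀ u, quad hQ (y u) = c * quad hQ u := by
  intro u
  have h1 : (polarBilin (quad hQ)).compl₁₂ y y = c • polarBilin (quad hQ) :=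
    LinearMap.ext_basis v v fun i j => by simpa using h i j
  have h3 : polar (quad hQ) (y u) (y u) = c * polar (quad hQ) u u := by
    simpa using LinearMap.congr_fun (LinearMap.congr_fun h1 u) u
  rw [polar_self', polar_self'] at h3
  exact mul_left_cancel₀ h2 (by linear_combination h3)

/-- Involutions modulo scalars. -/
theorem fix_two [Fintype F] (hQ : Cfsg.Geo.IsNondegenerateQuadraticForm Q) (h2 : (2 : F) ≠ 0) (hn : 0 < n)
    (x : GL (Fin n) F) (hxs : x ∈ Cfsg.Geo.specialLinear (Fin n) F) {z : F}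
    (hz : ((x ^ 2 : GL (Fin n) F) : Matrix (Fin n) (Fin n) F) = z • (1 : Matrix (Fin n) (Fin n) F)) :
    ∃ g ∈ Cfsg.Geo.specialLinear (Fin n) F, g⁻¹ * x * g ∈ Cfsg.Geo.quadSimilarityGroup Q := by
  classical
  haveI : Nonempty (Fin n) := ⟨⟨0, hn⟩⟩
  set f := Matrix.toLin' (x : Matrix (Fin n) (Fin n) F) with hf
  rw [Lib.Elusive.Linear.eq_smul_one_iff, coe_pow_toLin, ← hf, pow_two] at hz
  have hdet : LinearMap.det f = 1 := by
    rw [hf, LinearMap.det_toLin']
    exact congrArg Units.val hxs
  have hz0 : z ≠ 0 := fun h => by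
    have h1 := congrArg LinearMap.det hz
    rw [map_mul, hdet, mul_one, h, LinearMap.det_smul, zero_pow (by simp; omega), zero_mul] at h1
    exact one_ne_zero h1
  obtain ⟨v, hvo, hv0⟩ := exists_orth_basis hQ h2
  by_cases hsq : ∃ μ, μ * μ = z
  · obtain ⟨μ, hμ⟩ := hsq
    have hμ0 : μ ≠ 0 := fun h => hz0 (by rw [← hμ, h, mul_zero])
    have hne : μ ≠ -μ := fun h => hμ0 (by
      have h' : (2 : F) * μ = 0 := by linear_combination h
      exact (mul_eq_zero.mp h').resolve_left h2)
    have hprod : (f - μ • 1) * (f - (-μ) • 1) = 0 := by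
      refine LinearMap.ext fun u => ?_
      have hff : f (f u) = z • u := LinearMap.congr_fun hz u
      simp only [Module.End.mul_apply, LinearMap.sub_apply, LinearMap.smul_apply,
        Module.End.one_apply, LinearMap.zero_apply, map_sub, map_smul, hff, ← hμ]
      module
    have hIC := SingerNorm.isCompl_eigenspace f hne hprod
    let bP := Module.finBasis F (End.eigenspace f μ)
    let bM := Module.finBasis F (End.eigenspace f (-μ))
    let bb := (bP.prod bM).map (Submodule.prodEquivOfIsCompl _ _ hIC)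
    let σ := Fintype.equivFinOfCardEq ((finrank_eq_card_basis bb).symm.trans (finrank_fin_fun F))
    let w : Fin n → F := fun i => Sum.elim (fun _ => μ) (fun _ => -μ) (σ.symm i)
    have hb : ∀ i, f (bb.reindex σ i) = w i • bb.reindex σ i := fun i => by
      rw [Basis.reindex_apply]
      rcases h : σ.symm i with j | j <;> simp only [w, h, Sum.elim_inl, Sum.elim_inr]
      · rw [show bb (Sum.inl j) = (bP j : Fin n → F) by simp [bb]]
        exact End.mem_eigenspace_iff.mp (bP j).2
      · rw [show bb (Sum.inr j) = (bM j : Fin n → F) by simp [bb]]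
        exact End.mem_eigenspace_iff.mp (bM j).2
    have hw : ∀ i, w i * w i = z := fun i => by
      rcases h : σ.symm i with j | j <;> simp [w, h, hμ]
    let y : Module.End F (Fin n → F) := v.constr F fun i => w i • v i
    refine exists_conj_diag hQ x (bb.reindex σ) v ⟨0, hn⟩ w hb y (fun i => v.constr_basis F _ i)
      hz0 (simil_of_basis hQ h2 v y z fun i j => ?_)
    simp only [y, v.constr_basis, map_smul, LinearMap.smul_apply, smul_eq_mul]
    rcases eq_or_ne i j with rfl | hij
    · linear_combination polarBilin (quad hQ) (v i) (v i) * hw i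
    · rw [hvo i j hij]; ring
  · push Not at hsq
    have hev : Even n := by
      by_contra hodd
      obtain ⟨k, hk⟩ := Nat.not_even_iff_odd.mp hodd
      have h1 := congrArg LinearMap.det hz
      rw [map_mul, hdet, mul_one, LinearMap.det_smul, map_one, mul_one, finrank_fin_fun, hk] at h1
      have hzk : z ^ (k + 1) ≠ 0 := pow_ne_zero _ hz0
      refine hsq ((z ^ k)⁻¹) ?_
      rw [← mul_inv, inv_eq_of_mul_eq_one_right]
      linear_combination -h1
    obtain ⟨β, _, _, b, B, hP⟩ := ExtInvolution.exists_pairForm_monomial hz0 hz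
      (by rwa [finrank_fin_fun]) (Or.inl hsq)
    have hB : B = fun _ => !![0, z; 1, 0] := funext fun i =>
      (hP.blocks i).resolve_left fun ⟨e, he, _⟩ => hsq e he
    let σ : Fin 2 × β ≃ Fin n :=
      Fintype.equivFinOfCardEq ((finrank_eq_card_basis b).symm.trans (finrank_fin_fun F))
    let u := v.reindex σ.symm
    have huo : ∀ p q, p ≠ q → polarBilin (quad hQ) (u p) (u q) = 0 := fun p q hpq => by
      simp only [u, Basis.reindex_apply, Equiv.symm_symm]
      exact hvo _ _ fun h => hpq (σ.injective h)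
    have hu0 : ∀ p, polarBilin (quad hQ) (u p) (u p) ≠ 0 := fun p => by
      simp only [u, Basis.reindex_apply, Equiv.symm_symm]
      exact hv0 _
    let A : β → F := fun i => polarBilin (quad hQ) (u (0, i)) (u (0, i))
    let C : β → F := fun i => polarBilin (quad hQ) (u (1, i)) (u (1, i))
    have hst : ∀ i, ∃ s t : F, s ^ 2 + C i / A i * t ^ 2 = z := fun i => by
      obtain ⟨s, t, h⟩ := ExtInvolution.exists_norm_eq (neg_ne_zero.mpr (div_ne_zero (hu0 (1, i)) (hu0 (0, i)))) z
      exact ⟨s, t, by linear_combination h⟩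
    choose s t hst using hst
    have ht : ∀ i, t i ≠ 0 := fun i h => hsq (s i) (by
      have := hst i
      rw [h] at this
      linear_combination this)
    let J : β → Matrix (Fin 2) (Fin 2) F := fun i => !![s i, t i * C i / A i; t i, -s i]
    let y : Module.End F (Fin n → F) := Matrix.toLin u u (Matrix.blockDiagonal J)
    have hy0 : ∀ i, y (u (0, i)) = s i • u (0, i) + t i • u (1, i) := fun i => by
      rw [ExtInvolution.toLin_blockDiagonal_apply]; simp [J]
    have hy1 : ∀ i, y (u (1, i)) = (t i * C i / A i) • u (0, i) + (-s i) • u (1, i) := fun i => by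
      rw [ExtInvolution.toLin_blockDiagonal_apply]; simp [J]
    let g : Fin 2 × β → (Fin n → F) := fun p => if p.1 = 0 then u (0, p.2) else y (u (0, p.2))
    have hyy : ∀ i, y (y (u (0, i))) = z • u (0, i) := fun i => by
      rw [hy0, map_add, map_smul, map_smul, hy0, hy1, ← hst i]
      have := hu0 (0, i)
      match_scalars
      · field_simp
      · ring
    have hspan : ⊤ ≤ Submodule.span F (Set.range g) := by
      rw [← u.span_eq, Submodule.span_le]
      rintro _ ⟨⟨k, i⟩, rfl⟩
      have hg0 : g (0, i) ∈ Submodule.span F (Set.range g) := Submodule.subset_span ⟨_, rfl⟩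
      have hg1 : g (1, i) ∈ Submodule.span F (Set.range g) := Submodule.subset_span ⟨_, rfl⟩
      simp only [g, if_true, Fin.one_eq_zero_iff, OfNat.ofNat_ne_one, if_false] at hg0 hg1
      fin_cases k
      · exact hg0
      · show u (1, i) ∈ Submodule.span F (Set.range g)
        rw [show u (1, i) = (t i)⁻¹ • (y (u (0, i)) - s i • u (0, i)) by
          rw [hy0, add_sub_cancel_left, inv_smul_smul₀ (ht i)]]
        exact Submodule.smul_mem _ _ (Submodule.sub_mem _ hg1 (Submodule.smul_mem _ _ hg0))
    have hf' : ∀ k i, y (g (k, i)) = B i 0 k • g (0, i) + B i 1 k • g (1, i) := fun k i => by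
      rw [hB]
      fin_cases k <;> simp [g, hyy]
    obtain ⟨w, hw⟩ := ExtInvolution.pairForm_of_pairs (f := y) (z := z) (lam := -z) g hspan
      (finrank_eq_card_basis b).symm B hf' (fun i => Or.inr (by rw [hB]))
      (fun i => by rw [hB]; simp [Matrix.det_fin_two])
    obtain ⟨P, hPx⟩ := hP.exists_sl_conj (x := (x : Matrix (Fin n) (Fin n) F)) hn hz0 w
    rw [← hw.eq] at hPx
    refine ⟨Matrix.SpecialLinearGroup.toGL P, Units.ext P.2,
      conj_mem_simil hQ x _ hz0 (simil_of_basis hQ h2 u y z ?_) ?_⟩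
    · have hA : ∀ i, t i * C i / A i * A i = t i * C i := fun i =>
        div_mul_cancel₀ _ (hu0 (0, i))
      have hne : ∀ (a c : Fin 2) (i j : β), i ≠ j → polarBilin (quad hQ) (u (a, i)) (u (c, j)) = 0 :=
        fun a c i j hij => huo _ _ fun h => hij (congrArg Prod.snd h)
      have h01 : ∀ i, polarBilin (quad hQ) (u (0, i)) (u (1, i)) = 0 ∧
          polarBilin (quad hQ) (u (1, i)) (u (0, i)) = 0 :=
        fun i => ⟨huo _ _ (by simp), huo _ _ (by simp)⟩
      have he : ∀ i, t i * C i / A i * A i = t i * C i := hA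
      rintro ⟨a, i⟩ ⟨c, j⟩
      fin_cases a <;> fin_cases c <;>
        simp only [Fin.zero_eta, Fin.mk_one, hy0, hy1, map_add, map_smul, LinearMap.add_apply,
          LinearMap.smul_apply, smul_eq_mul] <;>
        (rcases eq_or_ne i j with rfl | hij
         rotate_left
         · simp only [hne _ _ i j hij]; ring) <;>
        simp only [(h01 i).1, (h01 i).2]
      · change s i * (s i * A i + t i * 0) + t i * (s i * 0 + t i * C i) = z * A i
        rw [← hst i]; linear_combination -(t i) * he i
      · show _ = z * 0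
        linear_combination (s i) * he i
      · show _ = z * 0
        linear_combination (s i) * he i
      · change t i * C i / A i * (t i * C i / A i * A i + -s i * 0) +
          -s i * (t i * C i / A i * 0 + -s i * C i) = z * C i
        rw [← hst i, he i]; ring
    · rw [Matrix.SpecialLinearGroup.coe_GL_coe_matrix, Module.End.mul_eq_comp, Module.End.mul_eq_comp,
        ← Matrix.toLin'_mul, hPx, Matrix.toLin'_mul, Matrix.toLin'_toMatrix']

end Cfsg.Agent.Lib.ElusiveOrth
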