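import Mathlib
import Cfsg.Agent.Lib.ElusiveOrth.Fix

/-!
Elements of order `r = n ∈ {3, 5}` of `SL(n, q)` with `v_r(q - 1) = 1` preserve a quadratic form.
Owner: helper86.
-/

set_option autoImplicit false

namespace Cfsg.Agent.Lib.ElusiveOrth

open Module QuadraticMap Cfsg.Agent.Lib.Forms Polynomial
open scoped Matrix

variable {F : Type*} [Field F] {n : ℕ} {Q : (Fin n → F) → F}

/-- The centre and the two pairs, as five indices. -/
def tbl : Fin 15 → Fin 5 → Fin 5 := ![
  ![0, 1, 2, 3, 4], ![0, 1, 3, 2, 4], ![0, 1, 4, 2, 3],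
  ![1, 0, 2, 3, 4], ![1, 0, 3, 2, 4], ![1, 0, 4, 2, 3],
  ![2, 0, 1, 3, 4], ![2, 0, 3, 1, 4], ![2, 0, 4, 1, 3],
  ![3, 0, 1, 2, 4], ![3, 0, 2, 1, 4], ![3, 0, 4, 1, 2],
  ![4, 0, 1, 2, 3], ![4, 0, 2, 1, 3], ![4, 0, 3, 1, 2]]

theorem tbl_injective : ∀ k i j, tbl k i = tbl k j → i = j := by decide

theorem pairing_five' : ∀ a b c d : ZMod 5, ∃ k : Fin 15,
    ![a, b, c, d, -(a + b + c + d)] (tbl k 1) + ![a, b, c, d, -(a + b + c + d)] (tbl k 2) =
        2 * ![a, b, c, d, -(a + b + c + d)] (tbl k 0) ∧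
      ![a, b, c, d, -(a + b + c + d)] (tbl k 3) + ![a, b, c, d, -(a + b + c + d)] (tbl k 4) =
        2 * ![a, b, c, d, -(a + b + c + d)] (tbl k 0) := by
  decide +kernel

theorem pairing_five (a : Fin 5 → ZMod 5) (h : ∑ i, a i = 0) :
    ∃ σ : Equiv.Perm (Fin 5), a (σ 1) + a (σ 2) = 2 * a (σ 0) ∧ a (σ 3) + a (σ 4) = 2 * a (σ 0) := by
  obtain ⟨k, hk⟩ := pairing_five' (a 0) (a 1) (a 2) (a 3)
  have he : a = ![a 0, a 1, a 2, a 3, -(a 0 + a 1 + a 2 + a 3)] := by
    rw [Fin.sum_univ_five] at h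
    funext i
    fin_cases i <;> simp
    linear_combination h
  refine ⟨Equiv.ofBijective (tbl k) (Finite.injective_iff_bijective.mp (tbl_injective k)), ?_⟩
  simp only [Equiv.ofBijective_apply]
  rw [he]
  exact hk

/-- Values arranged as pairs with product `u₀²` around a centre `u₀` preserve the form up to a scalar. -/
theorem exists_conj_paired [Fintype F] (hQ : Cfsg.Geo.IsNondegenerateQuadraticForm Q)
    (x : GL (Fin n) F) (b : Basis (Fin n) F (Fin n → F))
    (w : Fin n → F) (hb : ∀ i, Matrix.toLin' (x : Matrix (Fin n) (Fin n) F) (b i) = w i • b i)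
    {m : ℕ} (hn : n = 2 * m + 1) (σ : (Fin m ⊕ Fin m) ⊕ Unit ≃ Fin n) {t : F} (ht : t ≠ 0)
    (hp : ∀ i, w (σ (.inl (.inl i))) * w (σ (.inl (.inr i))) = t)
    (h0 : w (σ (.inr ())) * w (σ (.inr ())) = t) :
    ∃ g ∈ Cfsg.Geo.specialLinear (Fin n) F, g⁻¹ * x * g ∈ Cfsg.Geo.quadSimilarityGroup Q := by
  classical
  obtain ⟨c, ⟨φ⟩⟩ : ∃ c : F, (quad hQ).Equivalent ((qPlus m).prod (qOne c)) := by
    rcases classify (quad hQ) (quad_nondeg hQ) with ⟨k, hdim, _⟩ | ⟨k, c, -, -, hdim, he⟩ |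
      ⟨k, a, b, -, hdim, _⟩ <;> rw [finrank_fin_fun] at hdim
    · omega
    · obtain rfl : k = m := by omega
      exact ⟨c, he⟩
    · omega
  let e₀ : Basis ((Fin m ⊕ Fin m) ⊕ Unit) F ((Fin m ⊕ Fin m → F) × F) :=
    (Pi.basisFun F (Fin m ⊕ Fin m)).prod (Basis.singleton Unit F)
  let e : Basis (Fin n) F (Fin n → F) := (e₀.map φ.toLinearEquiv.symm).reindex σ
  let Y : Module.End F ((Fin m ⊕ Fin m → F) × F) :=
    (LinearMap.pi fun j => w (σ (.inl j)) • LinearMap.proj j).prodMap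
      (w (σ (.inr ())) • LinearMap.id)
  let y : Module.End F (Fin n → F) :=
    φ.toLinearEquiv.symm.toLinearMap ∘ₗ Y ∘ₗ φ.toLinearEquiv.toLinearMap
  refine exists_conj_diag hQ x b e (σ (.inr ())) w hb y (fun i => ?_) ht fun v => ?_
  · obtain ⟨i, rfl⟩ := σ.surjective i
    simp only [e, Basis.reindex_apply, Equiv.symm_apply_apply, Basis.map_apply, y,
      LinearMap.comp_apply, LinearEquiv.coe_coe, LinearEquiv.apply_symm_apply]
    rw [← map_smul]
    congr 1
    rcases i with i | ⟨⟩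
    · refine Prod.ext (funext fun j => ?_) ?_
      · simp [Y, e₀, Pi.single_apply]
        split_ifs with h <;> simp [h]
      · simp [Y, e₀]
    · simp [Y, e₀]
  · rw [← φ.map_app, ← φ.map_app v]
    show (qPlus m).prod (qOne c) (φ.toLinearEquiv (y v)) = t * (qPlus m).prod (qOne c) (φ.toLinearEquiv v)
    simp only [y, LinearMap.comp_apply, LinearEquiv.coe_coe, LinearEquiv.apply_symm_apply]
    generalize φ.toLinearEquiv v = P
    simp [Y, QuadraticMap.prod_apply, qPlus_apply, qOne_apply, mul_add, Finset.mul_sum]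
    congr 1
    · refine Finset.sum_congr rfl fun i _ => ?_
      linear_combination (P.1 (.inl i) * P.1 (.inr i)) * hp i
    · linear_combination (c * (P.2 * P.2)) * h0

/-- Diagonalisation of `f` with `f ^ r = 1`. -/
theorem exists_eigenbasis [Fintype F] {r : ℕ} [hr : Fact r.Prime] (hrF : (r : F) ≠ 0) {ζ : F}
    (hζ : IsPrimitiveRoot ζ r) (f : Module.End F (Fin n → F)) (hf : f ^ r = 1) :
    ∃ (b : Basis (Fin n) F (Fin n → F)) (a : Fin n → ZMod r), ∀ i, f (b i) = ζ ^ (a i).val • b i := by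
  classical
  set s : Set (Fin n → F) := {v | ∃ j : ℕ, f v = ζ ^ j • v} with hs
  have hζ0 : ζ ≠ 0 := hζ.ne_zero hr.out.ne_zero
  have hspan : ⊤ ≤ Submodule.span F s := by
    intro v _
    let pr : ℕ → Fin n → F := fun j => ∑ k ∈ Finset.range r, (ζ ^ j)⁻¹ ^ k • (f ^ k) v
    have hpr : ∀ j, pr j ∈ s := fun j => by
      refine ⟨j, ?_⟩
      have hzz : ((ζ ^ j)⁻¹) ^ r = 1 := by
        rw [inv_pow, ← pow_mul, mul_comm, pow_mul, hζ.pow_eq_one, one_pow, inv_one]
      have h1 := Finset.sum_range_succ' (fun k => (ζ ^ j)⁻¹ ^ k • (f ^ k) v) r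
      rw [Finset.sum_range_succ, hzz, hf, one_smul, pow_zero, one_smul, pow_zero] at h1
      have h2 := add_right_cancel h1
      show f (pr j) = ζ ^ j • pr j
      conv_rhs => rw [show pr j = _ from h2, Finset.smul_sum]
      rw [show pr j = ∑ k ∈ Finset.range r, (ζ ^ j)⁻¹ ^ k • (f ^ k) v from rfl, map_sum]
      refine Finset.sum_congr rfl fun k _ => ?_
      rw [map_smul, smul_smul, pow_succ' f, Module.End.mul_apply, pow_succ',
        mul_inv_cancel_left₀ (pow_ne_zero _ hζ0)]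
    have hsum : ∑ j ∈ Finset.range r, pr j = (r : F) • v := by
      rw [Finset.sum_comm, Finset.sum_eq_single 0]
      · simp [Nat.cast_smul_eq_nsmul]
      · intro k hk hk0
        rw [← Finset.sum_smul]
        rw [Finset.mem_range] at hk
        have hne : (ζ ^ k)⁻¹ ≠ 1 := fun h => hζ.pow_ne_one_of_pos_of_lt hk0 hk (inv_eq_one.mp h)
        have h0 : ∑ j ∈ Finset.range r, ((ζ ^ j)⁻¹) ^ k = 0 := by
          rw [Finset.sum_congr rfl fun j _ => show ((ζ ^ j)⁻¹) ^ k = ((ζ ^ k)⁻¹) ^ j by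
            rw [inv_pow, inv_pow, ← pow_mul, ← pow_mul, mul_comm]]
          rw [geom_sum_eq hne, inv_pow, ← pow_mul, mul_comm, pow_mul, hζ.pow_eq_one, one_pow,
            inv_one, sub_self, zero_div]
        rw [h0, zero_smul]
      · intro h; exact absurd (Finset.mem_range.mpr hr.out.pos) h
    have hv : v = (r : F)⁻¹ • ∑ j ∈ Finset.range r, pr j := by rw [hsum, inv_smul_smul₀ hrF]
    rw [hv]
    exact Submodule.smul_mem _ _ (Submodule.sum_mem _ fun j _ => Submodule.subset_span (hpr j))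
  let B := Basis.ofSpan hspan
  haveI := FiniteDimensional.fintypeBasisIndex B
  let b := B.reindex (Fintype.equivFinOfCardEq
    ((finrank_eq_card_basis B).symm.trans (finrank_fin_fun F)))
  have hb : ∀ i, b i ∈ s := fun i => by
    simp only [b, Basis.reindex_apply]
    exact Basis.ofSpan_subset hspan ⟨_, rfl⟩
  choose j hj using hb
  refine ⟨b, fun i => (j i : ZMod r), fun i => ?_⟩
  rw [hj i, ZMod.val_natCast]
  congr 1
  exact (hζ.eq_orderOf ▸ pow_mod_orderOf ζ (j i)).symm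

/-- The exceptional cases. -/
theorem fix_exc [Fintype F] {p : ℕ} [Fact p.Prime] [CharP F p] (hQ : Cfsg.Geo.IsNondegenerateQuadraticForm Q)
    {r : ℕ} [hr : Fact r.Prime] (h35 : r = 3 ∨ r = 5) (hnr : n = r)
    (hv : padicValNat r (Fintype.card F - 1) = 1) (x : GL (Fin n) F)
    (hxs : x ∈ Cfsg.Geo.specialLinear (Fin n) F) {z : F}
    (hz : ((x ^ r : GL (Fin n) F) : Matrix (Fin n) (Fin n) F) = z • (1 : Matrix (Fin n) (Fin n) F)) :
    ∃ g ∈ Cfsg.Geo.specialLinear (Fin n) F, g⁻¹ * x * g ∈ Cfsg.Geo.quadSimilarityGroup Q := by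
  classical
  subst hnr
  have hn3 : 3 ≤ n := by omega
  haveI : Nonempty (Fin n) := ⟨⟨0, by omega⟩⟩
  have hdvd : n ∣ Fintype.card F - 1 := dvd_of_one_le_padicValNat hv.ge
  obtain ⟨u, hu⟩ := exists_prime_orderOf_dvd_card n (show n ∣ Fintype.card Fˣ by rwa [Fintype.card_units])
  have hζ : IsPrimitiveRoot (u : F) n := by
    rw [IsPrimitiveRoot.coe_units_iff, ← hu]; exact IsPrimitiveRoot.orderOf u
  have hnF : (n : F) ≠ 0 := fun h0 => by
    have hpn : n = p := ((Nat.prime_dvd_prime_iff_eq Fact.out hr.out).mp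
      ((CharP.cast_eq_zero_iff F p n).mp h0)).symm
    obtain ⟨e, he, h⟩ := FiniteField.card F p
    rw [h, ← hpn] at hdvd
    have h' := Nat.dvd_sub (dvd_pow_self n e.ne_zero) hdvd
    rw [Nat.sub_sub_self (Nat.one_le_pow _ _ (by omega)), Nat.dvd_one] at h'
    omega
  set f := Matrix.toLin' (x : Matrix (Fin n) (Fin n) F) with hf
  rw [Lib.Elusive.Linear.eq_smul_one_iff, coe_pow_toLin, ← hf] at hz
  have hdet : LinearMap.det f = 1 := by
    rw [hf, LinearMap.det_toLin']
    exact congrArg Units.val hxs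
  have hzn : z ^ n = 1 := by
    have h1 := congrArg LinearMap.det hz
    rw [map_pow, hdet, one_pow, LinearMap.det_smul, map_one, mul_one, finrank_fin_fun] at h1
    exact h1.symm
  have hpow : ∃ c : F, c ^ n = z := by
    by_contra hc
    push Not at hc
    have hirr : Irreducible (X ^ n - C z) := X_pow_sub_C_irreducible_of_prime hr.out hc
    have hmin : minpoly F f = X ^ n - C z :=
      (minpoly.eq_of_irreducible_of_monic hirr (by
        simp [map_sub, map_pow, hz, Algebra.algebraMap_eq_smul_one])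
        (monic_X_pow_sub_C z (by omega))).symm
    have hchar : f.charpoly = X ^ n - C z := by
      refine (Polynomial.eq_of_monic_of_dvd_of_natDegree_le (monic_X_pow_sub_C z (by omega))
        f.charpoly_monic (hmin ▸ LinearMap.minpoly_dvd_charpoly f) ?_)
      rw [LinearMap.charpoly_natDegree, finrank_fin_fun, natDegree_X_pow_sub_C]
    have h1 := LinearMap.det_eq_sign_charpoly_coeff f
    rw [hchar, hdet, finrank_fin_fun, coeff_sub, coeff_X_pow, coeff_C_zero, if_neg (by omega),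
      zero_sub] at h1
    have hodd : Odd n := hr.out.odd_of_ne_two (by omega)
    rw [hodd.neg_one_pow, neg_one_mul, neg_neg] at h1
    exact hc 1 (by rw [one_pow]; exact h1)
  obtain ⟨c, hc⟩ := hpow
  have hz1 : z = 1 := by
    have hc0 : c ≠ 0 := fun h => by
      rw [← hc, h, zero_pow (by omega), zero_pow (by omega)] at hzn
      exact zero_ne_one hzn
    have h1 : orderOf c ∣ n ^ 2 := orderOf_dvd_of_pow_eq_one (by rw [pow_two, pow_mul, hc, hzn])
    have h2 : orderOf c ∣ Fintype.card F - 1 :=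
      orderOf_dvd_of_pow_eq_one (FiniteField.pow_card_sub_one_eq_one c hc0)
    obtain ⟨k, hk, hko⟩ := (Nat.dvd_prime_pow hr.out).mp h1
    have hk1 : k ≤ 1 := by
      rw [hko] at h2
      have hq1 : 1 < Fintype.card F := Fintype.one_lt_card
      have := (padicValNat_dvd_iff_le (p := n) (by omega)).mp h2
      omega
    rw [← hc]
    exact orderOf_dvd_iff_pow_eq_one.mp (hko ▸ (pow_dvd_pow n hk1).trans (pow_one n).dvd)
  rw [hz1, one_smul] at hz
  obtain ⟨b, a, hab⟩ := exists_eigenbasis hnF hζ f hz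
  let w : Fin n → F := fun i => (u : F) ^ (a i).val
  have hsum : ∑ i, a i = 0 := by
    have h1 : f = Matrix.toLin b b (Matrix.diagonal w) := b.ext fun i => by
      rw [hab, Matrix.toLin_self, Finset.sum_eq_single i]
      · simp [w]
      · intro j _ hj; simp [Matrix.diagonal_apply_ne _ hj]
      · simp
    rw [h1, LinearMap.det_toLin, Matrix.det_diagonal] at hdet
    simp only [w, Finset.prod_pow_eq_pow_sum] at hdet
    have h2 := (hζ.pow_eq_one_iff_dvd _).mp hdet
    rw [← ZMod.natCast_eq_zero_iff, Nat.cast_sum] at h2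
    simpa using h2
  have hval : ∀ i j k, a i + a j = 2 * a k → w i * w j = w k * w k := fun i j k h => by
    simp only [w, ← pow_add]
    rw [← pow_mod_orderOf, ← pow_mod_orderOf _ ((a k).val + (a k).val), ← hζ.eq_orderOf]
    congr 1
    rw [← ZMod.val_add, ← ZMod.val_add, h, two_mul]
  have hw0 : ∀ i, w i ≠ 0 := fun i => pow_ne_zero _ u.ne_zero
  rcases h35 with rfl | rfl
  · let σ : (Fin 1 ⊕ Fin 1) ⊕ Unit ≃ Fin 3 :=
      { toFun := Sum.elim (Sum.elim (fun _ => 0) (fun _ => 1)) (fun _ => 2)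
        invFun := ![.inl (.inl 0), .inl (.inr 0), .inr ()]
        left_inv := by rintro ((i | i) | ⟨⟩) <;> simp [Fin.fin_one_eq_zero]
        right_inv := by intro i; fin_cases i <;> rfl }
    refine exists_conj_paired hQ x b w hab (m := 1) rfl σ (t := w 2 * w 2)
      (mul_ne_zero (hw0 2) (hw0 2)) (fun i => ?_) rfl
    show w 0 * w 1 = w 2 * w 2
    refine hval 0 1 2 ?_
    rw [Fin.sum_univ_three] at hsum
    have h3 : (3 : ZMod 3) = 0 := by exact_mod_cast ZMod.natCast_self 3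
    linear_combination hsum - a 2 * h3
  · obtain ⟨π, h12, h34⟩ := pairing_five a hsum
    let σ₀ : (Fin 2 ⊕ Fin 2) ⊕ Unit ≃ Fin 5 :=
      { toFun := Sum.elim (Sum.elim ![1, 3] ![2, 4]) (fun _ => 0)
        invFun := ![.inr (), .inl (.inl 0), .inl (.inr 0), .inl (.inl 1), .inl (.inr 1)]
        left_inv := by rintro ((i | i) | ⟨⟩) <;> first | rfl | (fin_cases i <;> rfl)
        right_inv := by intro i; fin_cases i <;> rfl }
    refine exists_conj_paired hQ x b w hab (m := 2) rfl (σ₀.trans π) (t := w (π 0) * w (π 0))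
      (mul_ne_zero (hw0 _) (hw0 _)) (fun i => ?_) rfl
    fin_cases i
    · exact hval _ _ _ h12
    · exact hval _ _ _ h34

end Cfsg.Agent.Lib.ElusiveOrth
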